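/-
Characteristic polynomials in short exact sequences, eigenvalue pairs of commuting endomorphisms, and
sums of a multiplicative function over eigenvalues.
* `charpoly_restrict_mapQ`
* `exists_root_pairs`
* `exists_int_sum_rootSum`: averages of lifted eigenvalue sums over nilpotent `p'`-groups are integers
-/
import Cfsg.Agent.EqLemmas
import Cfsg.Agent.Lib.OrthPrime.Split
import Mathlib.GroupTheory.Nilpotent

set_option autoImplicit false

namespace Cfsg.Agent.GLCusp

open Polynomial Module

universe u v w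

section mult

variable {F : Type*} [Field F] {V : Type*} [AddCommGroup V] [Module F V] [FiniteDimensional F V]

open Module.Basis in
theorem charpoly_restrict_mapQ (f : Module.End F V) (W : Submodule F V) (hW : ∀ x ∈ W, f x ∈ W) :
    f.charpoly = (f.restrict hW).charpoly * (W.mapQ W f hW).charpoly := by
  classical
  let m := Module.Free.ChooseBasisIndex F W
  let bW : Basis m F W := Module.Free.chooseBasis F W
  let n := Module.Free.ChooseBasisIndex F (V ⧸ W)
  let bQ : Basis n F (V ⧸ W) := Module.Free.chooseBasis F (V ⧸ W)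
  let b := sumQuot bW bQ
  let A : Matrix m m F := LinearMap.toMatrix bW bW (f.restrict hW)
  let B : Matrix m n F := Matrix.of fun i l ↦
    ((sumQuot bW bQ).repr (f ((sumQuot bW bQ) (Sum.inr l)))) (Sum.inl i)
  let D : Matrix n n F := LinearMap.toMatrix bQ bQ (W.mapQ W f hW)
  suffices h : LinearMap.toMatrix b b f = Matrix.fromBlocks A B 0 D by
    rw [← LinearMap.charpoly_toMatrix f b, h, Matrix.charpoly_fromBlocks_zero₂₁,
      ← LinearMap.charpoly_toMatrix (f.restrict hW) bW, ← LinearMap.charpoly_toMatrix (W.mapQ W f hW) bQ]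
  ext u v
  cases u with
  | inl i =>
    cases v with
    | inl k =>
      simp only [b, sumQuot_inl, Matrix.fromBlocks_apply₁₁, A, LinearMap.toMatrix_apply]
      apply sumQuot_repr_inl_of_mem
    | inr l => simp [b, sumQuot, B, LinearMap.toMatrix_apply]
  | inr j =>
    cases v with
    | inl k =>
      simp [b, LinearMap.toMatrix_apply, Matrix.fromBlocks_apply₂₁, sumQuot_inl, sumQuot_repr_inr]
      rw [(Submodule.Quotient.mk_eq_zero W).2 (hW _ (bW k).2), map_zero, Finsupp.zero_apply]
    | inr l =>
      have hl : Submodule.Quotient.mk (p := W) ((sumQuot bW bQ) (Sum.inr l)) = bQ l := by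
        rw [← Submodule.mkQ_apply]
        simp [sumQuot, Function.surjInv_eq]
      simp [b, D, LinearMap.toMatrix_apply, Matrix.fromBlocks_apply₂₂, sumQuot_repr_inr]
      rw [← hl]
      rfl

theorem roots_charpoly_restrict_mapQ (f : Module.End F V) (W : Submodule F V)
    (hW : ∀ x ∈ W, f x ∈ W) :
    f.charpoly.roots = (f.restrict hW).charpoly.roots + (W.mapQ W f hW).charpoly.roots := by
  rw [charpoly_restrict_mapQ f W hW,
    roots_mul (mul_ne_zero (LinearMap.charpoly_monic _).ne_zero (LinearMap.charpoly_monic _).ne_zero)]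

theorem root_pow_eq_one {f : Module.End F V} {m : ℕ} (hf : f ^ m = 1) {c : F}
    (hc : c ∈ f.charpoly.roots) : c ^ m = 1 := by
  have h := (Module.End.hasEigenvalue_iff_isRoot_charpoly f c).2 (mem_roots'.1 hc).2
  obtain ⟨x, hx⟩ := h.exists_hasEigenvector
  have h2 := hx.pow_apply m
  rw [hf, Module.End.one_apply] at h2
  have h3 : (c ^ m - 1) • x = 0 := by rw [sub_smul, one_smul, ← h2, sub_self]
  exact sub_eq_zero.1 ((smul_eq_zero.1 h3).resolve_right hx.2)

theorem charpoly_of_scalar {L : Type*} [AddCommGroup L] [Module F L] [FiniteDimensional F L]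
    (h1 : finrank F L = 1) {f : Module.End F L} {c : F} (hf : ∀ x, f x = c • x) :
    f.charpoly = X - C c := by
  have : Nontrivial L := Module.nontrivial_of_finrank_eq_succ h1
  obtain ⟨x, hx⟩ := exists_ne (0 : L)
  have hev : f.HasEigenvalue c :=
    Module.End.hasEigenvalue_of_hasEigenvector ⟨Module.End.mem_eigenspace_iff.2 (hf x), hx⟩
  have hroot := (Module.End.hasEigenvalue_iff_isRoot_charpoly f c).1 hev
  refine (Polynomial.eq_of_monic_of_dvd_of_natDegree_le (monic_X_sub_C c) f.charpoly_monic
    (dvd_iff_isRoot.2 hroot) ?_)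
  rw [LinearMap.charpoly_natDegree, h1, natDegree_X_sub_C]

end mult

section pairs

variable {k : Type u} [Field k] [IsAlgClosed k]

/-- Simultaneous eigenvalues of two commuting endomorphisms. -/
theorem exists_root_pairs : ∀ (n : ℕ) {V : Type v} [AddCommGroup V] [Module k V] [FiniteDimensional k V]
    (f z : Module.End k V), Commute f z → finrank k V = n →
    ∃ P : Multiset (k × k),
      ∀ a b : ℕ, ((f ^ a * z ^ b).charpoly).roots = P.map fun t => t.1 ^ a * t.2 ^ b := by
  intro n
  induction n with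
  | zero =>
    intro V _ _ _ f z _ hd
    refine ⟨0, fun a b => ?_⟩
    have h : ((f ^ a * z ^ b).charpoly).natDegree = 0 := by rw [LinearMap.charpoly_natDegree, hd]
    have h2 := ((f ^ a * z ^ b).charpoly).card_roots'
    rw [h, Nat.le_zero, Multiset.card_eq_zero] at h2
    rw [h2, Multiset.map_zero]
  | succ n ih =>
    intro V _ _ _ f z hfz hd
    have : Nontrivial V := Module.nontrivial_of_finrank_eq_succ hd
    obtain ⟨c, hc⟩ := Module.End.exists_eigenvalue f
    let E := f.eigenspace c
    have hE : ∀ x ∈ E, z x ∈ E := fun x hx => by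
      rw [Module.End.mem_eigenspace_iff] at hx ⊢
      rw [← Module.End.mul_apply, hfz.eq, Module.End.mul_apply, hx, map_smul]
    have : Nontrivial E := Submodule.nontrivial_iff_ne_bot.2 hc
    obtain ⟨d, hd'⟩ := Module.End.exists_eigenvalue (z.restrict hE)
    obtain ⟨⟨x, hxE⟩, hx⟩ := hd'.exists_hasEigenvector
    have hx0 : x ≠ 0 := fun h => hx.2 (Subtype.ext h)
    have hfx : f x = c • x := Module.End.mem_eigenspace_iff.1 hxE
    have hzx : z x = d • x := congrArg Subtype.val hx.apply_eq_smul
    have hpf : ∀ a : ℕ, (f ^ a) x = c ^ a • x := by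
      intro a
      induction a with
      | zero => simp
      | succ a iha => rw [pow_succ, Module.End.mul_apply, hfx, map_smul, iha, smul_smul, ← pow_succ']
    have hpz : ∀ b : ℕ, (z ^ b) x = d ^ b • x := by
      intro b
      induction b with
      | zero => simp
      | succ b ihb => rw [pow_succ, Module.End.mul_apply, hzx, map_smul, ihb, smul_smul, ← pow_succ']
    let L := Submodule.span k ({x} : Set V)
    have hL1 : finrank k L = 1 := finrank_span_singleton hx0
    have hprod : ∀ a b : ℕ, ∀ y ∈ L, (f ^ a * z ^ b) y = (c ^ a * d ^ b) • y := by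
      intro a b y hy
      obtain ⟨t, rfl⟩ := Submodule.mem_span_singleton.1 hy
      rw [map_smul, Module.End.mul_apply, hpz, map_smul, hpf, smul_smul, smul_smul, smul_smul]
      congr 1
      ring
    have hLinv : ∀ a b : ℕ, ∀ y ∈ L, (f ^ a * z ^ b) y ∈ L := fun a b y hy => by
      rw [hprod a b y hy]; exact L.smul_mem _ hy
    have hfL : L ≤ L.comap f := fun y hy => by simpa using hLinv 1 0 y hy
    have hzL : L ≤ L.comap z := fun y hy => by simpa using hLinv 0 1 y hy
    have hq : finrank k (V ⧸ L) = n := by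
      have := L.finrank_quotient_add_finrank
      omega
    have hcomm : Commute (L.mapQ L f hfL) (L.mapQ L z hzL) := by
      apply Submodule.linearMap_qext
      ext y
      show Submodule.Quotient.mk (f (z y)) = Submodule.Quotient.mk (z (f y))
      rw [← Module.End.mul_apply, hfz.eq]
      rfl
    obtain ⟨P, hP⟩ := ih (L.mapQ L f hfL) (L.mapQ L z hzL) hcomm hq
    refine ⟨(c, d) ::ₘ P, fun a b => ?_⟩
    have hmq : L.mapQ L (f ^ a * z ^ b) (hLinv a b) = (L.mapQ L f hfL) ^ a * (L.mapQ L z hzL) ^ b := by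
      apply Submodule.linearMap_qext
      ext y
      have h1 : ∀ (g : Module.End k V) (hg : L ≤ L.comap g) (i : ℕ) (w : V),
          ((L.mapQ L g hg) ^ i) (Submodule.Quotient.mk w) = Submodule.Quotient.mk ((g ^ i) w) := by
        intro g hg i
        induction i with
        | zero => intro w; rfl
        | succ i ihi =>
          intro w
          rw [pow_succ, pow_succ, Module.End.mul_apply, Module.End.mul_apply, ← ihi (g w)]
          rfl
      show Submodule.Quotient.mk ((f ^ a * z ^ b) y) = _
      rw [LinearMap.comp_apply, Module.End.mul_apply, Submodule.mkQ_apply, Module.End.mul_apply,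
        h1 z hzL b y, h1 f hfL a]
    rw [roots_charpoly_restrict_mapQ _ L (hLinv a b), hmq, hP,
      charpoly_of_scalar hL1 (c := c ^ a * d ^ b) (fun y => Subtype.ext (hprod a b y y.2)),
      roots_X_sub_C, Multiset.map_cons, Multiset.singleton_add]

end pairs

section rootsum

variable {k : Type u} [Field k]

/-- `φ` is multiplicative and injective on the `M`-th roots of unity. -/
structure IsLift (M : ℕ) (φ : k → ℂ) : Prop where
  map_one : φ 1 = 1
  map_mul : ∀ x y : k, x ^ M = 1 → y ^ M = 1 → φ (x * y) = φ x * φ y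
  inj : ∀ x : k, x ^ M = 1 → φ x = 1 → x = 1

variable {M : ℕ} {φ : k → ℂ}

theorem IsLift.map_pow (hφ : IsLift M φ) {x : k} (hx : x ^ M = 1) (i : ℕ) : φ (x ^ i) = φ x ^ i := by
  induction i with
  | zero => simp [hφ.map_one]
  | succ i ih =>
    rw [pow_succ, hφ.map_mul _ _ (by rw [← pow_mul, mul_comm, pow_mul, hx, one_pow]) hx, ih, pow_succ]

theorem IsLift.injOn (hφ : IsLift M φ) {x y : k} (hx : x ^ M = 1) (hy : y ^ M = 1) (h : φ x = φ y) :
    x = y := by
  by_cases hy0 : y = 0
  · subst hy0
    rcases Nat.eq_zero_or_pos M with hM | hM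
    · subst hM
      by_contra hne
      have h2 := hφ.map_mul x x⁻¹ (by simp) (by simp)
      rw [mul_inv_cancel₀ hne, hφ.map_one, h] at h2
      have h3 := hφ.map_mul 0 0 (by simp) (by simp)
      rw [mul_zero] at h3
      have h4 := hφ.map_mul 0 x (by simp) (by simp)
      rw [zero_mul, h] at h4
      have h5 := hφ.map_mul 0 1 (by simp) (by simp)
      have hz : φ 0 ≠ 0 := fun h0 => one_ne_zero (by rw [h2, h0, zero_mul])
      have h6 : φ 0 = 1 := mul_left_cancel₀ hz (by rw [mul_one]; exact h3.symm)
      exact absurd (hφ.inj 0 (by simp) h6) zero_ne_one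
    · rw [zero_pow hM.ne'] at hy
      exact absurd hy zero_ne_one
  have hyi : y⁻¹ ^ M = 1 := by rw [inv_pow, hy, inv_one]
  have h1 : φ y * φ y⁻¹ = 1 := by rw [← hφ.map_mul _ _ hy hyi, mul_inv_cancel₀ hy0, hφ.map_one]
  have h2 := hφ.inj (x * y⁻¹) (by rw [mul_pow, hx, hyi, one_mul])
    (by rw [hφ.map_mul _ _ hx hyi, h, h1])
  exact mul_inv_eq_one₀ hy0 |>.1 h2

theorem IsLift.geom_sum_eq_zero (hφ : IsLift M φ) {μ : k} {m : ℕ} (hμM : μ ^ M = 1) (hμm : μ ^ m = 1)
    (hμ : μ ≠ 1) : ∑ i ∈ Finset.range m, φ μ ^ i = 0 := by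
  have h := geom_sum_mul (φ μ) m
  rw [← hφ.map_pow hμM, hμm, hφ.map_one, sub_self] at h
  exact (mul_eq_zero.1 h).resolve_right (sub_ne_zero.2 fun e => hμ (hφ.inj μ hμM e))

variable (φ)

/-- The sum of `φ` over the eigenvalues. -/
noncomputable def rootSum {V : Type v} [AddCommGroup V] [Module k V] [FiniteDimensional k V]
    (f : Module.End k V) : ℂ :=
  (f.charpoly.roots.map φ).sum

variable {φ}

variable [IsAlgClosed k] {V : Type v} [AddCommGroup V] [Module k V] [FiniteDimensional k V]

theorem rootSum_one (hφ : IsLift M φ) : rootSum φ (1 : Module.End k V) = (finrank k V : ℂ) := by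
  rw [rootSum, LinearMap.charpoly_one, show ((X - 1 : k[X])) = X - C 1 by simp, roots_pow,
    roots_X_sub_C, Multiset.map_nsmul, Multiset.sum_nsmul]
  simp [hφ.map_one]

/-- Averaging over a commuting cyclic `p'`-group picks out its fixed space. -/
theorem sum_rootSum_mul_pow (hφ : IsLift M φ) {f z : Module.End k V} (hfz : Commute f z) {m : ℕ}
    (hf : f ^ M = 1) (hz : z ^ m = 1) (hmM : m ∣ M) (hm : (m : k) ≠ 0)
    (hfix : ∀ x ∈ OrthPrime.fixSub z, f x ∈ OrthPrime.fixSub z) :
    ∑ i ∈ Finset.range m, rootSum φ (f * z ^ i) = (m : ℂ) * rootSum φ (f.restrict hfix) := by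
  classical
  have hmov : ∀ x ∈ OrthPrime.movSub z, f x ∈ OrthPrime.movSub z := by
    rintro _ ⟨w, rfl⟩
    refine ⟨f w, ?_⟩
    have h : z (f w) = f (z w) := by rw [← Module.End.mul_apply, ← hfz.eq, Module.End.mul_apply]
    simp [h]
  set fm : Module.End k (OrthPrime.movSub z) := f.restrict hmov with hfm
  set zm : Module.End k (OrthPrime.movSub z) := OrthPrime.movEnd z with hzm
  have hcm : Commute fm zm := LinearMap.ext fun x => Subtype.ext (by
    show f (z x) = z (f x)
    rw [← Module.End.mul_apply, hfz.eq]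
    rfl)
  obtain ⟨P, hP⟩ := exists_root_pairs _ fm zm hcm rfl
  have hpw : ∀ i : ℕ, ∀ x : OrthPrime.movSub z, (((zm ^ i) x : OrthPrime.movSub z) : V) = (z ^ i) x := by
    intro i
    induction i with
    | zero => intro x; rfl
    | succ i ih =>
      intro x
      rw [pow_succ, pow_succ, Module.End.mul_apply, Module.End.mul_apply, ih]
      rfl
  have hzfix : ∀ i : ℕ, ∀ x ∈ OrthPrime.fixSub z, (z ^ i) x = x := by
    intro i
    induction i with
    | zero => intro x _; rfl
    | succ i ih => intro x hx; rw [pow_succ, Module.End.mul_apply, OrthPrime.mem_fixSub.1 hx, ih x hx]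
  have hsplit : ∀ i : ℕ, rootSum φ (f * z ^ i) =
      rootSum φ (f.restrict hfix) + (P.map fun t => φ (t.1 * t.2 ^ i)).sum := by
    intro i
    have h1 : ∀ x ∈ OrthPrime.fixSub z, (f * z ^ i) x ∈ OrthPrime.fixSub z := fun x hx => by
      rw [Module.End.mul_apply, hzfix i x hx]; exact hfix x hx
    have h2 : ∀ x ∈ OrthPrime.movSub z, (f * z ^ i) x ∈ OrthPrime.movSub z := fun x hx => by
      rw [Module.End.mul_apply]
      refine hmov _ ?_
      rw [← hpw i ⟨x, hx⟩]
      exact Subtype.coe_prop _
    have e1 : (f * z ^ i).restrict h1 = f.restrict hfix := LinearMap.ext fun x => Subtype.ext (by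
      show f ((z ^ i) x) = f x
      rw [hzfix i x x.2])
    have e2 : (f * z ^ i).restrict h2 = fm * zm ^ i := LinearMap.ext fun x => Subtype.ext (by
      show f ((z ^ i) x) = _
      rw [← hpw i x]
      rfl)
    have h3 := hP 1 i
    simp only [pow_one] at h3
    rw [rootSum, Semisimple.charpoly_eq_mul (OrthPrime.isCompl_fix_mov hm hz) h1 h2, e1, e2,
      roots_mul (mul_ne_zero (LinearMap.charpoly_monic _).ne_zero (LinearMap.charpoly_monic _).ne_zero),
      Multiset.map_add, Multiset.sum_add, h3, Multiset.map_map]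
    rfl
  rw [Finset.sum_congr rfl fun i _ => hsplit i, Finset.sum_add_distrib, Finset.sum_const,
    Finset.card_range, nsmul_eq_mul]
  refine add_eq_left.2 ?_
  rw [← Multiset.sum_map_sum]
  refine Multiset.sum_eq_zero ?_
  intro y hy
  obtain ⟨t, ht, rfl⟩ := Multiset.mem_map.1 hy
  have hzm1 : zm ^ m = 1 := OrthPrime.movEnd_pow hz
  have hfm1 : fm ^ M = 1 := by
    have : ∀ j : ℕ, ∀ x : OrthPrime.movSub z, (((fm ^ j) x : OrthPrime.movSub z) : V) = (f ^ j) x := by
      intro j
      induction j with
      | zero => intro x; rfl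
      | succ j ih =>
        intro x
        rw [pow_succ, pow_succ, Module.End.mul_apply, Module.End.mul_apply, ih]
        rfl
    exact LinearMap.ext fun x => Subtype.ext (by rw [this, hf]; rfl)
  have hmem1 : t.1 ∈ fm.charpoly.roots := by
    have := hP 1 0
    simp only [pow_one, pow_zero, mul_one] at this
    rw [this]
    exact Multiset.mem_map_of_mem _ ht
  have hmem2 : t.2 ∈ zm.charpoly.roots := by
    have := hP 0 1
    simp only [pow_one, pow_zero, one_mul] at this
    rw [this]
    exact Multiset.mem_map_of_mem _ ht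
  have ht2 : t.2 ≠ 1 := by
    intro e
    rw [e] at hmem2
    obtain ⟨x, hx⟩ := ((Module.End.hasEigenvalue_iff_isRoot_charpoly zm 1).2
      (mem_roots'.1 hmem2).2).exists_hasEigenvector
    exact hx.2 (OrthPrime.movEnd_fixedFree hm hz x (by
      have := hx.apply_eq_smul
      rwa [one_smul] at this))
  have hmpow := root_pow_eq_one hzm1 hmem2
  have hMpow : t.2 ^ M = 1 := by
    obtain ⟨j, rfl⟩ := hmM
    rw [pow_mul, hmpow, one_pow]
  have hpi : ∀ i : ℕ, φ (t.1 * t.2 ^ i) = φ t.1 * φ t.2 ^ i := fun i => by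
    rw [hφ.map_mul _ _ (root_pow_eq_one hfm1 hmem1) (by rw [← pow_mul, mul_comm, pow_mul, hMpow, one_pow]),
      hφ.map_pow hMpow]
  rw [Finset.sum_congr rfl fun i _ => hpi i, ← Finset.mul_sum, hφ.geom_sum_eq_zero hMpow hmpow ht2,
    mul_zero]

end rootsum

section average

variable {k : Type u} [Field k] [IsAlgClosed k] {M : ℕ} {φ : k → ℂ}

/-- The average of the eigenvalue sums over a nilpotent `p'`-group is an integer. -/
theorem exists_int_sum_rootSum (hφ : IsLift M φ) : ∀ (N : ℕ) (H : Type w) [Group H] [Fintype H]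
    [Group.IsNilpotent H], Nat.card H = N → (N : k) ≠ 0 → (∀ h : H, h ^ M = 1) →
    ∀ (V : Type v) [AddCommGroup V] [Module k V] [FiniteDimensional k V] (ρ : H →* Module.End k V),
      ∃ a : ℤ, ∑ h : H, rootSum φ (ρ h) = (N : ℂ) * a := by
  intro N
  induction N using Nat.strong_induction_on with
  | _ N ih =>
    intro H _ _ _ hN hk hM V _ _ _ ρ
    classical
    subst hN
    rcases subsingleton_or_nontrivial H with hs | hnt
    · refine ⟨finrank k V, ?_⟩
      rw [Fintype.sum_subsingleton _ 1, map_one, rootSum_one hφ, Nat.card_unique]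
      simp
    obtain ⟨⟨z, hzc⟩, hz⟩ := (Subgroup.center H).ne_bot_iff_exists_ne_one.1
      (Group.IsNilpotent.center_ne_bot H)
    have hz1 : z ≠ 1 := fun e => hz (Subtype.ext e)
    set m := orderOf z with hm
    set S := Subgroup.zpowers z with hS
    have hnor : S.Normal := ⟨fun x hx g => by
      have : x ∈ Subgroup.center H := (Subgroup.zpowers_le.2 hzc) hx
      rw [Subgroup.mem_center_iff.1 this g, mul_inv_cancel_right]
      exact hx⟩
    have hcard : Nat.card H = Nat.card (H ⧸ S) * m := by
      rw [S.card_eq_card_quotient_mul_card_subgroup, Nat.card_zpowers]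
    have hmk : (m : k) ≠ 0 := fun e => hk (by rw [hcard, Nat.cast_mul, e, mul_zero])
    have hqk : (Nat.card (H ⧸ S) : k) ≠ 0 := fun e => hk (by rw [hcard, Nat.cast_mul, e, zero_mul])
    have hmM : m ∣ M := orderOf_dvd_of_pow_eq_one (hM z)
    have hρz : ρ z ^ m = 1 := by rw [← map_pow, hm, pow_orderOf_eq_one, map_one]
    have hcomm : ∀ h : H, Commute (ρ h) (ρ z) := fun h =>
      (show Commute h z from Subgroup.mem_center_iff.1 hzc h).map ρ
    have hfix : ∀ h : H, ∀ x ∈ OrthPrime.fixSub (ρ z), ρ h x ∈ OrthPrime.fixSub (ρ z) := fun h x hx => by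
      rw [OrthPrime.mem_fixSub, ← Module.End.mul_apply, ← (hcomm h).eq, Module.End.mul_apply,
        OrthPrime.mem_fixSub.1 hx]
    let σ : H →* Module.End k (OrthPrime.fixSub (ρ z)) :=
      { toFun := fun h => (ρ h).restrict (hfix h)
        map_one' := LinearMap.ext fun x => Subtype.ext (by
          rw [LinearMap.restrict_coe_apply, map_one]; rfl)
        map_mul' := fun a b => LinearMap.ext fun x => Subtype.ext (by
          rw [LinearMap.restrict_coe_apply, map_mul]; rfl) }
    have hker : S ≤ σ.ker := Subgroup.zpowers_le.2 (LinearMap.ext fun x => Subtype.ext (by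
      show ρ z x = x
      exact OrthPrime.mem_fixSub.1 x.2))
    let τ := QuotientGroup.lift S σ hker
    have hlt : Nat.card (H ⧸ S) < Nat.card H := by
      rw [hcard]
      refine lt_mul_right Nat.card_pos ?_
      have h0 : 0 < m := orderOf_pos z
      have h1 : m ≠ 1 := fun e => hz1 (orderOf_eq_one_iff.1 e)
      omega
    obtain ⟨a, ha⟩ := ih _ hlt (H ⧸ S) rfl hqk (fun q => by
      induction q using QuotientGroup.induction_on with
      | _ h => rw [← QuotientGroup.mk_pow, hM]; rfl) _ τ
    refine ⟨a, ?_⟩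
    have hfib : ∑ h : H, rootSum φ (σ h) = (m : ℂ) * ∑ q : H ⧸ S, rootSum φ (τ q) := by
      rw [Finset.mul_sum, ← Finset.sum_fiberwise Finset.univ (fun h : H => (h : H ⧸ S))]
      refine Finset.sum_congr rfl fun q _ => ?_
      rw [Finset.sum_congr rfl (g := fun _ => rootSum φ (τ q)) (fun h hh => by
        rw [← (Finset.mem_filter.1 hh).2]; rfl), Finset.sum_const, nsmul_eq_mul]
      congr 2
      have h1 := QuotientGroup.card_preimage_mk S ({q} : Set (H ⧸ S))
      rw [Nat.card_zpowers, Nat.card_coe_set_eq ({q} : Set (H ⧸ S)), Set.ncard_singleton, mul_one,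
        Nat.card_eq_fintype_card] at h1
      rw [hm, ← h1]
      simp [Fintype.card_subtype]
    have hshift : (m : ℂ) * ∑ h : H, rootSum φ (ρ h) = (m : ℂ) * ∑ h : H, rootSum φ (σ h) := by
      conv_rhs =>
        rw [Finset.mul_sum, Finset.sum_congr rfl fun h _ => (show (m : ℂ) * rootSum φ (σ h) =
            ∑ i ∈ Finset.range m, rootSum φ (ρ h * ρ z ^ i) from
          (sum_rootSum_mul_pow hφ (hcomm h) (by rw [← map_pow, hM, map_one]) hρz hmM hmk (hfix h)).symm),
          Finset.sum_comm]
      rw [Finset.sum_congr rfl (g := fun _ => ∑ h : H, rootSum φ (ρ h)) (fun i _ =>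
        Fintype.sum_equiv (Equiv.mulRight (z ^ i)) _ _ fun h => by simp [map_mul, map_pow]),
        Finset.sum_const, Finset.card_range, nsmul_eq_mul]
    have hm0 : (m : ℂ) ≠ 0 := Nat.cast_ne_zero.2 (orderOf_pos z).ne'
    rw [mul_left_cancel₀ hm0 hshift, hfib, ha, hcard, Nat.cast_mul]
    ring

end average

end Cfsg.Agent.GLCusp
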