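/-
Lifting of eigenvalue sums to generalized characters.
* `cv`, `Cval`: the sum of a lift over the roots of a polynomial, of a characteristic polynomial
* `isGeneralizedCharacter_Cval`: Green's theorem on lifted characters of linear groups
-/
import Cfsg.Agent.Lib.GLCusp.Basic
import Cfsg.Agent.Lib.Char.Brauer
import Cfsg.Agent.Lib.Char.PRegular
import Mathlib.RingTheory.RootsOfUnity.AlgebraicallyClosed

set_option autoImplicit false

namespace Cfsg.Agent.GLCusp

open Polynomial Module Cfsg
open scoped ComplexConjugate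

universe u v w

variable {F : Type u} [Field F]

/-- The algebraic closure. -/
abbrev Kl (F : Type u) [Field F] := AlgebraicClosure F

/-- Sum of `φ` over the roots of `P` in the algebraic closure. -/
noncomputable def cv (φ : Kl F → ℂ) (P : F[X]) : ℂ :=
  ((P.map (algebraMap F (Kl F))).roots.map φ).sum

/-- Sum of `φ` over the eigenvalues. -/
noncomputable def Cval (φ : Kl F → ℂ) {V : Type v} [AddCommGroup V] [Module F V] [FiniteDimensional F V]
    (f : Module.End F V) : ℂ :=
  cv φ f.charpoly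

theorem cv_one (φ : Kl F → ℂ) : cv φ (1 : F[X]) = 0 := by simp [cv]

theorem cv_mul (φ : Kl F → ℂ) {P Q : F[X]} (hP : P ≠ 0) (hQ : Q ≠ 0) :
    cv φ (P * Q) = cv φ P + cv φ Q := by
  rw [cv, Polynomial.map_mul, roots_mul (mul_ne_zero (map_ne_zero hP) (map_ne_zero hQ)),
    Multiset.map_add, Multiset.sum_add]
  rfl

theorem cv_pow (φ : Kl F → ℂ) {P : F[X]} (hP : P ≠ 0) (j : ℕ) : cv φ (P ^ j) = (j : ℂ) * cv φ P := by
  induction j with
  | zero => simp [cv_one]
  | succ j ih => rw [pow_succ, cv_mul φ (pow_ne_zero _ hP) hP, ih]; push_cast; ring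

theorem Cval_restrict_mapQ (φ : Kl F → ℂ) {V : Type v} [AddCommGroup V] [Module F V]
    [FiniteDimensional F V] (f : Module.End F V) (W : Submodule F V) (hW : ∀ x ∈ W, f x ∈ W) :
    Cval φ f = Cval φ (f.restrict hW) + Cval φ (W.mapQ W f hW) := by
  rw [Cval, Cval, Cval, charpoly_restrict_mapQ f W hW,
    cv_mul φ (LinearMap.charpoly_monic _).ne_zero (LinearMap.charpoly_monic _).ne_zero]

theorem Cval_conj (φ : Kl F → ℂ) {V : Type v} [AddCommGroup V] [Module F V] [FiniteDimensional F V]
    {W : Type w} [AddCommGroup W] [Module F W] [FiniteDimensional F W]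
    {f : Module.End F V} {g : Module.End F W} (e : V ≃ₗ[F] W) (he : ∀ x, e (f x) = g (e x)) :
    Cval φ f = Cval φ g := by
  rw [Cval, Cval]
  congr 1
  rw [← e.charpoly_conj f]
  congr 1
  ext x
  simp [LinearEquiv.conj_apply, he]

section scalar

variable {k : Type u} [Field k] [IsAlgClosed k] {M : ℕ} {φ : k → ℂ}
  {V : Type v} [AddCommGroup V] [Module k V] [FiniteDimensional k V]

theorem root_smul_one {a c : k} (hc : c ∈ (a • (1 : Module.End k V)).charpoly.roots) : c = a := by
  obtain ⟨x, hx⟩ := ((Module.End.hasEigenvalue_iff_isRoot_charpoly _ c).2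
    (mem_roots'.1 hc).2).exists_hasEigenvector
  have h := hx.apply_eq_smul
  rw [LinearMap.smul_apply, Module.End.one_apply] at h
  have h2 : (a - c) • x = 0 := by rw [sub_smul, h, sub_self]
  exact (sub_eq_zero.1 ((smul_eq_zero.1 h2).resolve_right hx.2)).symm

theorem rootSum_smul (hφ : IsLift M φ) {f : Module.End k V} (hf : f ^ M = 1) {a : k} (ha : a ^ M = 1) :
    rootSum φ (a • f) = φ a * rootSum φ f := by
  obtain ⟨P, hP⟩ := exists_root_pairs _ f (a • (1 : Module.End k V))
    ((Commute.one_right f).smul_right a) rfl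
  have h11 := hP 1 1
  have h10 := hP 1 0
  have h01 := hP 0 1
  simp only [pow_one, pow_zero, mul_one, one_mul, mul_smul_comm] at h11 h10 h01
  have h2 : ∀ t ∈ P, t.2 = a ∧ t.1 ^ M = 1 := fun t ht =>
    ⟨root_smul_one (by rw [h01]; exact Multiset.mem_map_of_mem _ ht),
      root_pow_eq_one hf (by rw [h10]; exact Multiset.mem_map_of_mem _ ht)⟩
  rw [rootSum, rootSum, h11, h10, Multiset.map_map, Multiset.map_map, ← Multiset.sum_map_mul_left]
  congr 1
  refine Multiset.map_congr rfl fun t ht => ?_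
  show φ (t.1 * t.2) = φ a * φ t.1
  rw [(h2 t ht).1, hφ.map_mul _ _ (h2 t ht).2 ha, mul_comm]

end scalar

section green

variable [Fintype F] {M : ℕ} {φ : Kl F → ℂ}

/-- A root of unity in `ℂ` of order prime to the characteristic is a value of the lift. -/
theorem exists_lift_value (hφ : IsLift M φ) {o : ℕ} (ho : (o : Kl F) ≠ 0) (hoM : o ∣ M) {z : ℂ}
    (hz : z ^ o = 1) : ∃ a : Kl F, a ^ M = 1 ∧ φ a = z := by
  have : NeZero (o : Kl F) := ⟨ho⟩
  have ho0 : 0 < o := Nat.pos_of_ne_zero fun e => ho (by rw [e, Nat.cast_zero])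
  have : NeZero o := ⟨ho0.ne'⟩
  obtain ⟨ζ, hζ⟩ := HasEnoughRootsOfUnity.exists_primitiveRoot (Kl F) o
  have hζM : ζ ^ M = 1 := by
    obtain ⟨j, rfl⟩ := hoM
    rw [pow_mul, hζ.pow_eq_one, one_pow]
  have hprim : IsPrimitiveRoot (φ ζ) o := by
    refine ⟨?_, fun l hl => ?_⟩
    · rw [← hφ.map_pow hζM, hζ.pow_eq_one, hφ.map_one]
    · rw [← hφ.map_pow hζM] at hl
      exact hζ.dvd_of_pow_eq_one l (hφ.inj _ (by rw [← pow_mul, mul_comm, pow_mul, hζM, one_pow]) hl)
  obtain ⟨i, -, hi⟩ := hprim.eq_pow_of_pow_eq_one hz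
  exact ⟨ζ ^ i, by rw [← pow_mul, mul_comm, pow_mul, hζM, one_pow], by rw [hφ.map_pow hζM, hi]⟩

/-- The sum of lifted eigenvalues is a generalized character. -/
theorem isGeneralizedCharacter_Cval (hφ : IsLift M φ) {V : Type v} [AddCommGroup V] [Module F V]
    [FiniteDimensional F V] {G : Type w} [Group G] [Finite G] (ρ : G →* Module.End F V)
    (hM : ∀ g : G, g ^ M = 1) : IsGeneralizedCharacter G (fun g => Cval φ (ρ g)) := by
  classical
  let b := Module.finBasis F V
  let σ : G →* Module.End (Kl F) (Fin (finrank F V) → Kl F) :=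
    ((Matrix.toLinAlgEquiv' (R := Kl F)).toRingEquiv.toMonoidHom.comp
      (((algebraMap F (Kl F)).mapMatrix).toMonoidHom.comp
        (LinearMap.toMatrixAlgEquiv b).toRingEquiv.toMonoidHom)).comp ρ
  have hC : ∀ g, Cval φ (ρ g) = rootSum φ (σ g) := by
    intro g
    rw [Cval, cv, rootSum]
    congr 3
    rw [show σ g = Matrix.toLin' ((LinearMap.toMatrix b b (ρ g)).map (algebraMap F (Kl F))) from rfl,
      Matrix.charpoly_toLin', Matrix.charpoly_map, LinearMap.charpoly_toMatrix]
  suffices key : IsGeneralizedCharacter G (fun g => rootSum φ (σ g)) by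
    simpa only [← hC] using key
  have hσM : ∀ g, σ g ^ M = 1 := fun g => by rw [← map_pow, hM, map_one]
  have hcls : IsClassFunction G (fun g => rootSum φ (σ g)) := by
    intro g h
    let e : (Fin (finrank F V) → Kl F) ≃ₗ[Kl F] (Fin (finrank F V) → Kl F) :=
      LinearEquiv.ofLinear (σ h) (σ h⁻¹)
        (by rw [← Module.End.mul_eq_comp, ← map_mul, mul_inv_cancel, map_one]; rfl)
        (by rw [← Module.End.mul_eq_comp, ← map_mul, inv_mul_cancel, map_one]; rfl)
    show rootSum φ (σ (h * g * h⁻¹)) = rootSum φ (σ g)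
    rw [rootSum, rootSum, ← e.charpoly_conj (σ g)]
    congr 4
    apply LinearMap.ext
    intro x
    simp [LinearEquiv.conj_apply, e, map_mul]
  refine Char.brauer_characterization hcls fun E l hl hE => ?_
  have := Char.isNilpotent_of_isElementary hl hE
  have := Fintype.ofFinite E
  obtain ⟨p, hpc⟩ := CharP.exists F
  have hp : p.Prime := CharP.char_is_prime F p
  have hpK : CharP (Kl F) p := charP_of_injective_algebraMap (algebraMap F (Kl F)).injective p
  have hpfact : Fact p.Prime := ⟨hp⟩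
  set A := Nat.card E / p ^ (Nat.card E).factorization p with hA
  set B := p ^ (Nat.card E).factorization p with hB
  have hcard : Nat.card E = A * B := by
    rw [mul_comm]; exact (Nat.ordProj_mul_ordCompl_eq_self _ p).symm
  have hcop : A.Coprime B := ((Nat.coprime_ordCompl hp Nat.card_pos.ne').symm).pow_right _
  obtain ⟨m, f, hf, hm, hBm⟩ := Char.exists_powHom hcop hcard
  let Q := f.range
  have hQA : ∀ x : Q, x ^ A = 1 := by
    rintro ⟨_, y, rfl⟩
    obtain ⟨j, rfl⟩ := hBm
    refine Subtype.ext ?_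
    rw [SubmonoidClass.coe_pow]
    show f y ^ A = 1
    rw [hf, ← pow_mul, show B * j * A = A * B * j by ring, ← hcard, pow_mul, pow_card_eq_one', one_pow]
  have hQp : ∀ K : Subgroup Q, ((Nat.card K : Kl F)) ≠ 0 := by
    intro K
    rw [Ne, CharP.cast_eq_zero_iff (Kl F) p]
    intro hdvd
    obtain ⟨x, hx⟩ := exists_prime_orderOf_dvd_card' p hdvd
    have h1 : orderOf ((x : K) : Q) ∣ A := orderOf_dvd_of_pow_eq_one (hQA x)
    rw [Subgroup.orderOf_coe, hx] at h1
    exact Nat.not_dvd_ordCompl hp Nat.card_pos.ne' h1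
  have hproj : ∀ e : E, rootSum φ (σ e) = rootSum φ (σ (f e : E)) := by
    intro e
    set u : E := (f e)⁻¹ * e with hu
    have hcomm : Commute (f e) u := by
      rw [hu, hf]
      exact (Commute.refl _).inv_right.mul_right ((Commute.refl e).pow_left m)
    have huB : u ^ B = 1 := by
      have hce : Commute ((f e)⁻¹) e := by rw [hf]; exact ((Commute.refl e).pow_left m).inv_left
      rw [hu, hce.mul_pow, inv_pow, hf, ← pow_mul, inv_mul_eq_one, pow_eq_pow_iff_modEq]
      have h1 : m * B ≡ 1 * B [MOD A * B] := hm.mul_right' B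
      rw [one_mul, ← hcard] at h1
      exact h1.of_dvd (orderOf_dvd_natCard e)
    have hz : σ (u : G) ^ B = 1 := by rw [← map_pow, ← SubmonoidClass.coe_pow, huB]; exact map_one σ
    obtain ⟨P, hP⟩ := exists_root_pairs _ (σ ((f e : E) : G)) (σ (u : G))
      ((congrArg (fun x : E => σ (x : G)) hcomm.eq |> fun h => by
        simpa [Commute, SemiconjBy, map_mul] using h)) rfl
    have h11 := hP 1 1
    have h10 := hP 1 0
    have h01 := hP 0 1
    simp only [pow_one, pow_zero, mul_one, one_mul] at h11 h10 h01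
    have he : σ (e : G) = σ ((f e : E) : G) * σ (u : G) := by
      rw [← map_mul, hu]; simp
    rw [rootSum, rootSum, he, h11, h10]
    congr 2
    refine Multiset.map_congr rfl fun t ht => ?_
    have h1 : t.2 ^ B = 1 := root_pow_eq_one hz (by rw [h01]; exact Multiset.mem_map_of_mem _ ht)
    have h2 : (t.2 - 1) ^ B = 0 := by rw [hB, sub_pow_char_pow, one_pow, ← hB, h1, sub_self]
    rw [sub_eq_zero.1 (pow_eq_zero_iff (pow_ne_zero _ hp.ne_zero) |>.1 h2), mul_one]
  let fQ : E →* Q := f.rangeRestrict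
  let σQ : Q →* Module.End (Kl F) (Fin (finrank F V) → Kl F) := σ.comp (E.subtype.comp Q.subtype)
  have hfun : (fun e : E => rootSum φ (σ (e : G))) = (fun x : Q => rootSum φ (σQ x)) ∘ fQ := by
    funext e
    exact hproj e
  rw [hfun]
  suffices hgq : IsGeneralizedCharacter Q (fun x : Q => rootSum φ (σQ x)) from
    Char.IsGeneralizedCharacter.comp_hom hgq fQ
  have := Fintype.ofFinite Q
  have hclsQ : IsClassFunction Q (fun x : Q => rootSum φ (σQ x)) := fun g h => by
    have := hcls (((g : Q) : E) : G) (((h : Q) : E) : G)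
    simpa [σQ] using this
  refine Char.isGeneralizedCharacter_iff_classInner.2 ⟨hclsQ, fun χ => ?_⟩
  obtain ⟨K, lam, hlam⟩ := Char.monomial_of_isNilpotent χ.2
  have := Fintype.ofFinite K
  rw [hlam, Char.frobenius_reciprocity' K _ hclsQ]
  have hKM : ∀ h : K, h ^ M = 1 := fun h => by
    apply Subtype.ext; apply Subtype.ext; apply Subtype.ext
    simpa using hM (((h : Q) : E) : G)
  have hval : ∀ h : K, ∃ a : Kl F, a ^ M = 1 ∧ φ a = conj (lam h : ℂ) := by
    intro h
    refine exists_lift_value hφ (o := orderOf h) ?_ (orderOf_dvd_of_pow_eq_one (hKM h)) ?_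
    · intro e
      obtain ⟨j, hj⟩ := orderOf_dvd_natCard h
      exact hQp K (by rw [hj, Nat.cast_mul, e, zero_mul])
    · rw [← map_pow, ← Units.val_pow_eq_pow_val, ← map_pow, pow_orderOf_eq_one, map_one, Units.val_one,
        map_one]
  choose a haM haφ using hval
  let τ : K →* Module.End (Kl F) (Fin (finrank F V) → Kl F) :=
    { toFun := fun h => a h • σQ (h : Q)
      map_one' := by
        have : a 1 = 1 := hφ.inj _ (haM 1) (by rw [haφ]; simp)
        rw [this, one_smul, Subgroup.coe_one, map_one]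
      map_mul' := fun g h => by
        have : a (g * h) = a g * a h := hφ.injOn (haM _) (by rw [mul_pow, haM, haM, one_mul])
          (by rw [hφ.map_mul _ _ (haM g) (haM h), haφ, haφ, haφ, map_mul, Units.val_mul, map_mul])
        rw [this, Subgroup.coe_mul, map_mul, smul_mul_smul_comm] }
  obtain ⟨z, hz⟩ := exists_int_sum_rootSum hφ _ K rfl (hQp K) hKM _ τ
  refine ⟨z, ?_⟩
  rw [classInner, Finset.sum_congr rfl (g := fun h => rootSum φ (τ h)) fun h _ => ?_, hz, ← mul_assoc,
    inv_mul_cancel₀ (Nat.cast_ne_zero.2 Nat.card_pos.ne'), one_mul]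
  show _ = rootSum φ (a h • σQ (h : Q))
  rw [rootSum_smul hφ (f := σQ (h : Q)) (hσM _) (haM h), haφ]
  exact mul_comm _ _

end green

end Cfsg.Agent.GLCusp
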