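/-
The recursively defined class functions `rho`, with `Cval f = ∑ rho (f|W)` over stable subspaces `W`.
* `Cval_eq_sum`, `rho_conj`
* `isGeneralizedCharacter_rho`
* `card_lift`: the lifts of a subspace of a quotient form a torsor
* `rho_one`: the degree
-/
import Cfsg.Agent.Lib.GLCusp.Lift
import Mathlib.FieldTheory.Finiteness

set_option autoImplicit false

namespace Cfsg.Agent.GLCusp

open Polynomial Module Cfsg

universe u v w

variable {F : Type u} [Field F]

open Classical in
/-- Recursion with fuel for `rho`. -/
noncomputable def rhoAux (φ : Kl F → ℂ) :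
    ℕ → ∀ (V : Type v) [AddCommGroup V] [Module F V] [FiniteDimensional F V], Module.End F V → ℂ
  | 0 => fun _ _ _ _ _ => 0
  | n + 1 => fun V _ _ _ f =>
      Cval φ f - ∑ᶠ W : Submodule F V,
        if W = ⊤ then 0 else if h : ∀ x ∈ W, f x ∈ W then rhoAux φ n W (f.restrict h) else 0

/-- The cuspidal class function. -/
noncomputable def rho (φ : Kl F → ℂ) {V : Type v} [AddCommGroup V] [Module F V] [FiniteDimensional F V]
    (f : Module.End F V) : ℂ :=
  rhoAux φ (finrank F V) V f

open Classical in
/-- `rho` of the restriction to a stable subspace, zero for other subspaces. -/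
noncomputable def rhoOn (φ : Kl F → ℂ) {V : Type v} [AddCommGroup V] [Module F V] [FiniteDimensional F V]
    (f : Module.End F V) (W : Submodule F V) : ℂ :=
  if h : ∀ x ∈ W, f x ∈ W then rho φ (f.restrict h) else 0

variable (φ : Kl F → ℂ) {V : Type v} [AddCommGroup V] [Module F V] [FiniteDimensional F V]

theorem Cval_of_finrank_zero (hV : finrank F V = 0) (f : Module.End F V) : Cval φ f = 0 := by
  have h : f.charpoly = 1 := f.charpoly_monic.natDegree_eq_zero.1 (by rw [LinearMap.charpoly_natDegree, hV])
  rw [Cval, h, cv_one]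

theorem rhoAux_of_le : ∀ (n : ℕ) {U : Type v} [AddCommGroup U] [Module F U] [FiniteDimensional F U],
    finrank F U ≤ n → ∀ f : Module.End F U, rhoAux φ n U f = rho φ f := by
  intro n
  induction n using Nat.strong_induction_on with
  | _ n ih =>
    intro U _ _ _ hn f
    rcases n with - | n
    · rw [rho, Nat.le_zero.1 hn]
    rcases Nat.eq_zero_or_pos (finrank F U) with h0 | hpos
    · have : Subsingleton U := Module.finrank_zero_iff.1 h0
      simp only [rho, h0, rhoAux]
      rw [Cval_of_finrank_zero φ h0, finsum_eq_zero_of_forall_eq_zero, sub_zero]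
      intro W
      rw [if_pos (Subsingleton.elim W ⊤)]
    obtain ⟨m, hm⟩ := Nat.exists_eq_succ_of_ne_zero hpos.ne'
    simp only [rho, hm, rhoAux]
    congr 1
    refine finsum_congr fun W => ?_
    split_ifs with h1 h2
    · rfl
    · have hlt : finrank F W < finrank F U := Submodule.finrank_lt h1
      rw [ih n (Nat.lt_succ_self n) (by omega), ih m (by omega) (by omega)]
    · rfl

open Classical in
theorem rho_eq (f : Module.End F V) :
    rho φ f = Cval φ f - ∑ᶠ W : Submodule F V, if W = ⊤ then 0 else rhoOn φ f W := by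
  rw [← rhoAux_of_le φ (finrank F V + 1) (Nat.le_succ _) f]
  simp only [rhoAux]
  congr 1
  refine finsum_congr fun W => ?_
  unfold rhoOn
  split_ifs with h1 h2
  · rfl
  · rw [rhoAux_of_le φ _ W.finrank_le]
  · rfl

theorem rho_of_finrank_zero (hV : finrank F V = 0) (f : Module.End F V) : rho φ f = 0 := by
  simp only [rho, hV, rhoAux]

theorem rho_conj : ∀ (n : ℕ) {U U' : Type v} [AddCommGroup U] [Module F U] [FiniteDimensional F U]
    [AddCommGroup U'] [Module F U'] [FiniteDimensional F U'],
    finrank F U = n → ∀ (f : Module.End F U) (g : Module.End F U') (e : U ≃ₗ[F] U'),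
      (∀ x, e (f x) = g (e x)) → rho φ f = rho φ g := by
  intro n
  induction n using Nat.strong_induction_on with
  | _ n ih =>
    intro U U' _ _ _ _ _ _ hn f g e he
    rw [rho_eq, rho_eq, Cval_conj φ e he]
    congr 1
    refine finsum_eq_of_bijective (fun W => W.map (e : U →ₗ[F] U'))
      (Submodule.orderIsoMapComap e).bijective fun W => ?_
    have htop : W.map (e : U →ₗ[F] U') = ⊤ ↔ W = ⊤ :=
      (Submodule.map_injective_of_injective e.injective).eq_iff' (by simp [LinearMap.range_eq_top, e.surjective])
    by_cases h1 : W = ⊤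
    · rw [if_pos h1, if_pos (htop.2 h1)]
    rw [if_neg h1, if_neg (fun h => h1 (htop.1 h))]
    have hst : (∀ x ∈ W.map (e : U →ₗ[F] U'), g x ∈ W.map (e : U →ₗ[F] U')) ↔ ∀ x ∈ W, f x ∈ W := by
      constructor
      · intro h x hx
        obtain ⟨y, hy, hye⟩ := h _ ⟨x, hx, rfl⟩
        rw [LinearEquiv.coe_coe, ← he, e.injective.eq_iff] at hye
        exact hye ▸ hy
      · rintro h _ ⟨x, hx, rfl⟩
        exact ⟨f x, h x hx, he x⟩
    unfold rhoOn
    by_cases h2 : ∀ x ∈ W, f x ∈ W
    · rw [dif_pos h2, dif_pos (hst.2 h2)]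
      refine ih (finrank F W) (hn ▸ Submodule.finrank_lt h1) rfl _ _ (e.submoduleMap W) fun x => ?_
      exact Subtype.ext (he x)
    · rw [dif_neg h2, dif_neg (fun h => h2 (hst.1 h))]

theorem rho_sim {U : Type v} [AddCommGroup U] [Module F U] [FiniteDimensional F U] {f : Module.End F V}
    {g : Module.End F U} (e : V ≃ₗ[F] U) (he : ∀ x, e (f x) = g (e x)) : rho φ f = rho φ g :=
  rho_conj φ _ rfl f g e he

theorem rhoOn_top (f : Module.End F V) : rhoOn φ f ⊤ = rho φ f := by
  rw [rhoOn, dif_pos fun x _ => Submodule.mem_top]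
  exact rho_sim φ Submodule.topEquiv fun x => rfl

theorem rhoOn_bot (f : Module.End F V) : rhoOn φ f ⊥ = 0 := by
  unfold rhoOn
  split_ifs
  · exact rho_of_finrank_zero φ (finrank_bot F V) _
  · rfl

variable [Finite F]

theorem finite_submodule (U : Type v) [AddCommGroup U] [Module F U] [FiniteDimensional F U] :
    Finite (Submodule F U) :=
  have : Finite U := Module.finite_of_finite F
  Finite.of_injective (fun W : Submodule F U => (W : Set U)) SetLike.coe_injective

theorem Cval_eq_sum [Fintype (Submodule F V)] (f : Module.End F V) :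
    Cval φ f = ∑ W : Submodule F V, rhoOn φ f W := by
  classical
  have h := rho_eq φ f
  rw [finsum_eq_sum_of_fintype] at h
  rw [← Finset.add_sum_erase _ _ (Finset.mem_univ (⊤ : Submodule F V)), rhoOn_top, h,
    ← Finset.add_sum_erase _ (fun W => if W = ⊤ then 0 else rhoOn φ f W)
      (Finset.mem_univ (⊤ : Submodule F V)), if_pos rfl, zero_add,
    Finset.sum_congr rfl fun W hW => if_neg (Finset.ne_of_mem_erase hW)]
  ring

section gen

theorem isGeneralizedCharacter_sum_fixed {G : Type w} [Group G] [Fintype G] {Ω : Type*} [Fintype Ω]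
    [MulAction G Ω] (f : G → Ω → ℂ) (hzero : ∀ g ω, g • ω ≠ ω → f g ω = 0)
    (heq : ∀ x g ω, f (x * g * x⁻¹) (x • ω) = f g ω)
    (hgen : ∀ ω, IsGeneralizedCharacter (MulAction.stabilizer G ω)
      (fun h : MulAction.stabilizer G ω => f (h : G) ω)) :
    IsGeneralizedCharacter G (fun g => ∑ ω, f g ω) := by
  classical
  suffices key : ∀ s : Finset Ω, (∀ (x : G), ∀ ω ∈ s, x • ω ∈ s) →
      IsGeneralizedCharacter G (fun g => ∑ ω ∈ s, f g ω) from key _ fun _ _ _ => Finset.mem_univ _
  intro s
  induction s using Finset.strongInduction with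
  | _ s ih =>
    intro hs
    rcases s.eq_empty_or_nonempty with rfl | ⟨ω0, hω0⟩
    · simp only [Finset.sum_empty]; exact Char.IsGeneralizedCharacter.zero
    set o := (Finset.univ : Finset G).image (fun x => x • ω0) with ho
    have hos : o ⊆ s := by
      intro ω hω
      obtain ⟨x, -, rfl⟩ := Finset.mem_image.1 hω
      exact hs x ω0 hω0
    have hind : (fun g => ∑ ω ∈ o, f g ω) = Cfsg.indFun (MulAction.stabilizer G ω0)
        (fun h : MulAction.stabilizer G ω0 => f (h : G) ω0) := by
      funext g
      have hval : ∀ x : G, extendByZero (MulAction.stabilizer G ω0)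
          (fun h : MulAction.stabilizer G ω0 => f (h : G) ω0) (x⁻¹ * g * x) = f g (x • ω0) := by
        intro x
        have e := heq x (x⁻¹ * g * x) ω0
        rw [show x * (x⁻¹ * g * x) * x⁻¹ = g by group] at e
        rw [Char.extendByZero_eq]
        split_ifs with h
        · exact e.symm
        · rw [e]; exact (hzero _ _ fun hh => h hh).symm
      rw [Cfsg.indFun, Finset.sum_congr rfl fun x _ => hval x,
        Finset.sum_comp (f g) (fun x : G => x • ω0), Finset.mul_sum]
      refine Finset.sum_congr rfl fun ω hω => ?_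
      obtain ⟨a, -, rfl⟩ := Finset.mem_image.1 hω
      have hc : (Finset.univ.filter fun x : G => x • ω0 = a • ω0).card =
          Nat.card (MulAction.stabilizer G ω0) := by
        rw [← Fintype.card_subtype, ← Nat.card_eq_fintype_card]
        exact Nat.card_congr ((Equiv.mulLeft a⁻¹).subtypeEquiv fun x => by
          simp [MulAction.mem_stabilizer_iff, mul_smul, inv_smul_eq_iff])
      rw [hc, nsmul_eq_mul, ← mul_assoc, inv_mul_cancel₀ (Nat.cast_ne_zero.2 Nat.card_pos.ne'), one_mul]
    have hrest := ih (s \ o) (Finset.sdiff_ssubset hos ⟨ω0, Finset.mem_image.2 ⟨1, Finset.mem_univ _,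
      one_smul G ω0⟩⟩) (by
      intro x ω hω
      rw [Finset.mem_sdiff] at hω ⊢
      refine ⟨hs x ω hω.1, fun h => hω.2 ?_⟩
      obtain ⟨y, -, hy⟩ := Finset.mem_image.1 h
      exact Finset.mem_image.2 ⟨x⁻¹ * y, Finset.mem_univ _, by rw [mul_smul, hy, inv_smul_smul]⟩)
    have hsplit : (fun g => ∑ ω ∈ s, f g ω) =
        (fun g => ∑ ω ∈ s \ o, f g ω) + fun g => ∑ ω ∈ o, f g ω := by
      funext g
      exact (Finset.sum_sdiff hos).symm
    rw [hsplit]
    exact Char.IsGeneralizedCharacter.add hrest (hind ▸ Char.IsGeneralizedCharacter.indFun (hgen ω0))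

variable {φ}

theorem isGeneralizedCharacter_rho {M : ℕ} (hφ : IsLift M φ) : ∀ (n : ℕ) {U : Type v} [AddCommGroup U]
    [Module F U] [FiniteDimensional F U], finrank F U = n →
    ∀ (G : Type w) [Group G] [Finite G] (ρ : G →* Module.End F U), (∀ g : G, g ^ M = 1) →
      IsGeneralizedCharacter G (fun g => rho φ (ρ g)) := by
  intro n
  induction n using Nat.strong_induction_on with
  | _ n ih =>
    intro U _ _ _ hn G _ _ ρ hM
    classical
    have := Fintype.ofFinite G
    have := Fintype.ofFinite F
    have := finite_submodule (F := F) U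
    have := Fintype.ofFinite (Submodule F U)
    letI : MulAction G (Submodule F U) :=
      { smul := fun g W => W.map (ρ g)
        one_smul := fun W => show W.map (ρ 1) = W by rw [map_one]; exact Submodule.map_id W
        mul_smul := fun a b W => show W.map (ρ (a * b)) = (W.map (ρ b)).map (ρ a) by
          rw [map_mul]; exact Submodule.map_comp _ _ _ }
    have hstab : ∀ (g : G) (W : Submodule F U), (∀ x ∈ W, ρ g x ∈ W) ↔ g • W = W := by
      intro g W
      constructor
      · intro h
        have hle : W.map (ρ g) ≤ W := by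
          rintro _ ⟨x, hx, rfl⟩
          exact h x hx
        have hinj : Function.Injective (ρ g) := fun a b hab => by
          have := congrArg (ρ g⁻¹) hab
          rwa [← Module.End.mul_apply, ← Module.End.mul_apply, ← map_mul, inv_mul_cancel, map_one] at this
        exact Submodule.eq_of_le_of_finrank_eq hle ((Submodule.equivMapOfInjective _ hinj W).symm.finrank_eq)
      · intro h x hx
        rw [← h]
        exact ⟨x, hx, rfl⟩
    let fW : G → Submodule F U → ℂ := fun g W => if W = ⊤ then 0 else rhoOn φ (ρ g) W
    have key : IsGeneralizedCharacter G (fun g => ∑ W, fW g W) := by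
      refine isGeneralizedCharacter_sum_fixed fW ?_ ?_ ?_
      · intro g W hgW
        simp only [fW]
        split_ifs
        · rfl
        · rw [rhoOn, dif_neg fun h => hgW ((hstab g W).1 h)]
      · intro x g W
        simp only [fW]
        have htop : x • W = ⊤ ↔ W = ⊤ := by
          constructor
          · intro h
            rw [← inv_smul_smul x W, h]
            exact (hstab x⁻¹ ⊤).1 fun _ _ => Submodule.mem_top
          · intro h
            rw [h]
            exact (hstab x ⊤).1 fun _ _ => Submodule.mem_top
        by_cases h1 : W = ⊤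
        · rw [if_pos h1, if_pos (htop.2 h1)]
        rw [if_neg h1, if_neg (fun h => h1 (htop.1 h))]
        have hiff : (x * g * x⁻¹) • (x • W) = x • W ↔ g • W = W := by
          rw [mul_smul, mul_smul, inv_smul_smul, smul_left_cancel_iff]
        unfold rhoOn
        by_cases h2 : g • W = W
        · rw [dif_pos ((hstab _ _).2 h2), dif_pos ((hstab _ _).2 (hiff.2 h2))]
          let e : U ≃ₗ[F] U := LinearEquiv.ofLinear (ρ x) (ρ x⁻¹)
            (by rw [← Module.End.mul_eq_comp, ← map_mul, mul_inv_cancel, map_one]; rfl)
            (by rw [← Module.End.mul_eq_comp, ← map_mul, inv_mul_cancel, map_one]; rfl)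
          symm
          refine rho_sim φ (e.submoduleMap W) fun y => Subtype.ext ?_
          show ρ x (ρ g y) = ρ (x * g * x⁻¹) (ρ x y)
          rw [← Module.End.mul_apply, ← Module.End.mul_apply, ← map_mul, ← map_mul]
          congr 2
          group
        · rw [dif_neg (fun h => h2 (hiff.1 ((hstab _ _).1 h))), dif_neg (fun h => h2 ((hstab _ _).1 h))]
      · intro W
        by_cases h1 : W = ⊤
        · simp only [fW, if_pos h1]; exact Char.IsGeneralizedCharacter.zero
        let τ : MulAction.stabilizer G W →* Module.End F W :=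
          { toFun := fun h => (ρ (h : G)).restrict ((hstab _ _).2 h.2)
            map_one' := LinearMap.ext fun y => Subtype.ext (by
              rw [LinearMap.restrict_coe_apply]; simp)
            map_mul' := fun a b => LinearMap.ext fun y => Subtype.ext (by
              rw [LinearMap.restrict_coe_apply]; simp) }
        have := ih (finrank F W) (hn ▸ Submodule.finrank_lt h1) rfl (MulAction.stabilizer G W) τ
          (fun h => Subtype.ext (by simpa using hM h))
        convert this using 1
        funext h
        simp only [fW, if_neg h1, rhoOn]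
        rw [dif_pos ((hstab (h : G) W).2 h.2)]
        rfl
    have := Char.IsGeneralizedCharacter.sub (isGeneralizedCharacter_Cval hφ ρ hM) key
    convert this using 1
    funext g
    rw [rho_eq, finsum_eq_sum_of_fintype]
    rfl

end gen

section lifts

/-- The lifts of a subspace of a quotient. -/
theorem card_lift (X : Submodule F V) (Wb : Submodule F (V ⧸ X)) :
    Nat.card {W : Submodule F V // W ⊓ X = ⊥ ∧ W.map X.mkQ = Wb} = Nat.card (Wb →ₗ[F] X) := by
  obtain ⟨σ, hσ⟩ := X.mkQ.exists_rightInverse_of_surjective X.range_mkQ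
  let s : (Wb →ₗ[F] X) → (Wb →ₗ[F] V) := fun c => σ.comp Wb.subtype + X.subtype.comp c
  have hs : ∀ c y, X.mkQ (s c y) = y := fun c y => by
    have h1 := LinearMap.congr_fun hσ (y : V ⧸ X)
    simp only [LinearMap.comp_apply, LinearMap.id_apply] at h1
    simp only [s, LinearMap.add_apply, LinearMap.comp_apply, Submodule.subtype_apply, map_add,
      Submodule.mkQ_apply, (Submodule.Quotient.mk_eq_zero X).2 (c y).2, add_zero]
    exact h1
  let L : (Wb →ₗ[F] X) → {W : Submodule F V // W ⊓ X = ⊥ ∧ W.map X.mkQ = Wb} := fun c =>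
    ⟨LinearMap.range (s c), by
      rw [eq_bot_iff]
      rintro _ ⟨⟨y, rfl⟩, hy⟩
      have h := hs c y
      rw [Submodule.mkQ_apply, (Submodule.Quotient.mk_eq_zero X).2 hy] at h
      have : y = 0 := Subtype.ext h.symm
      rw [this, map_zero]
      exact Submodule.zero_mem _, by
      ext z
      constructor
      · rintro ⟨_, ⟨y, rfl⟩, rfl⟩
        rw [hs]; exact y.2
      · exact fun hz => ⟨_, ⟨⟨z, hz⟩, rfl⟩, hs c _⟩⟩
  refine (Nat.card_eq_of_bijective L ⟨fun c d h => ?_, fun ⟨W, hW1, hW2⟩ => ?_⟩).symm
  · have h' : LinearMap.range (s c) = LinearMap.range (s d) := congrArg Subtype.val h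
    ext y
    obtain ⟨y', hy'⟩ : s c y ∈ LinearMap.range (s d) := h' ▸ ⟨y, rfl⟩
    have e : y' = y := Subtype.ext (by rw [← hs d y', hy', hs])
    rw [e] at hy'
    simp only [s, LinearMap.add_apply, LinearMap.comp_apply, Submodule.subtype_apply, add_right_inj] at hy'
    exact hy'.symm
  · let π : W →ₗ[F] Wb := (X.mkQ.comp W.subtype).codRestrict Wb fun x => hW2 ▸ ⟨x, x.2, rfl⟩
    have hπ : Function.Bijective π := by
      constructor
      · rw [← LinearMap.ker_eq_bot, LinearMap.ker_eq_bot']
        intro x hx
        have : X.mkQ (x : V) = 0 := congrArg Subtype.val hx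
        rw [Submodule.mkQ_apply, Submodule.Quotient.mk_eq_zero] at this
        exact Subtype.ext ((Submodule.eq_bot_iff _).1 hW1 x ⟨x.2, this⟩)
      · rintro ⟨z, hz⟩
        rw [← hW2] at hz
        obtain ⟨x, hx, hxz⟩ := hz
        exact ⟨⟨x, hx⟩, Subtype.ext hxz⟩
    let e := LinearEquiv.ofBijective π hπ
    let c : Wb →ₗ[F] X := ((W.subtype.comp e.symm.toLinearMap) - σ.comp Wb.subtype).codRestrict X fun y => by
      rw [← Submodule.Quotient.mk_eq_zero, ← Submodule.mkQ_apply, LinearMap.sub_apply, map_sub, sub_eq_zero]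
      have h1 := congrArg Subtype.val (e.apply_symm_apply y)
      have h2 := LinearMap.congr_fun hσ (y : V ⧸ X)
      simp only [LinearMap.comp_apply, LinearMap.id_apply] at h2
      exact h1.trans h2.symm
    refine ⟨c, Subtype.ext ?_⟩
    have hc : ∀ y, s c y = (e.symm y : V) := fun y => by simp [s, c]
    show LinearMap.range (s c) = W
    ext z
    constructor
    · rintro ⟨y, rfl⟩
      rw [hc]; exact (e.symm y).2
    · intro hz
      exact ⟨e ⟨z, hz⟩, by rw [hc, e.symm_apply_apply]⟩

end lifts

section degree

/-- The signed degree. -/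
noncomputable def degP (q : ℕ) : ℕ → ℂ
  | 0 => 0
  | k + 1 => ∏ i ∈ Finset.range k, (1 - (q : ℂ) ^ (i + 1))

theorem degP_succ (q k : ℕ) :
    (q : ℂ) ^ k * degP q k + degP q (k + 1) = degP q k + if k = 0 then 1 else 0 := by
  rcases k with - | k
  · simp [degP]
  · simp only [degP, Finset.prod_range_succ, Nat.succ_ne_zero, if_false]
    ring

theorem sum_degP : ∀ (n : ℕ) (U : Type v) [AddCommGroup U] [Module F U] [FiniteDimensional F U]
    [Fintype (Submodule F U)], finrank F U = n →
    ∑ W : Submodule F U, degP (Nat.card F) (finrank F W) = (n : ℂ) := by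
  intro n
  induction n with
  | zero =>
    intro U _ _ _ _ hn
    rw [Nat.cast_zero]
    refine Finset.sum_eq_zero fun W _ => ?_
    have : finrank F W = 0 := by have := W.finrank_le; omega
    rw [this, degP]
  | succ n ih =>
    intro U _ _ _ _ hn
    classical
    have : Nontrivial U := Module.nontrivial_of_finrank_eq_succ hn
    obtain ⟨x, hx⟩ := exists_ne (0 : U)
    set L := Submodule.span F ({x} : Set U) with hL
    have hL1 : finrank F L = 1 := finrank_span_singleton hx
    have := finite_submodule (F := F) (U ⧸ L)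
    have := Fintype.ofFinite (Submodule F (U ⧸ L))
    have hq : finrank F (U ⧸ L) = n := by have := L.finrank_quotient_add_finrank; omega
    rw [← Finset.sum_filter_add_sum_filter_not Finset.univ (fun W : Submodule F U => L ≤ W)]
    have hA : ∑ W ∈ Finset.univ.filter (fun W : Submodule F U => L ≤ W), degP (Nat.card F) (finrank F W) =
        ∑ Wb : Submodule F (U ⧸ L), degP (Nat.card F) (finrank F Wb + 1) := by
      refine (Finset.sum_bij (fun Wb _ => Wb.comap L.mkQ) (fun Wb _ => ?_) (fun a _ b _ h => ?_)
        (fun W hW => ?_) fun Wb _ => ?_).symm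
      · simp only [Finset.mem_filter, Finset.mem_univ, true_and]
        exact L.le_comap_mkQ Wb
      · exact Submodule.comap_injective_of_surjective L.mkQ_surjective h
      · exact ⟨W.map L.mkQ, Finset.mem_univ _, by
          rw [Submodule.comap_map_mkQ, sup_eq_right.2 (Finset.mem_filter.1 hW).2]⟩
      · congr 1
        have h1 := Submodule.finrank_quotient_add_finrank (L.comap (Wb.comap L.mkQ).subtype)
        rw [(Submodule.comapSubtypeEquivOfLe (L.le_comap_mkQ Wb)).finrank_eq, hL1] at h1
        rw [← h1]
        congr 1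
        let g : (Wb.comap L.mkQ) →ₗ[F] Wb := L.mkQ.restrict fun y hy => hy
        have hgk : LinearMap.ker g = L.comap (Wb.comap L.mkQ).subtype := by
          ext y
          rw [LinearMap.mem_ker, Submodule.mem_comap, Submodule.subtype_apply,
            ← Submodule.Quotient.mk_eq_zero]
          exact ⟨fun h => congrArg Subtype.val h, fun h => Subtype.ext h⟩
        have hgs : Function.Surjective g := fun ⟨z, hz⟩ => by
          obtain ⟨y, rfl⟩ := L.mkQ_surjective z
          exact ⟨⟨y, hz⟩, rfl⟩
        rw [← hgk]
        exact (LinearEquiv.finrank_eq (g.quotKerEquivOfSurjective hgs)).symm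
    have hB : ∑ W ∈ Finset.univ.filter (fun W : Submodule F U => ¬L ≤ W), degP (Nat.card F) (finrank F W) =
        ∑ Wb : Submodule F (U ⧸ L), (Nat.card F : ℂ) ^ finrank F Wb * degP (Nat.card F) (finrank F Wb) := by
      have hmeet : ∀ W : Submodule F U, ¬L ≤ W ↔ W ⊓ L = ⊥ := fun W => by
        constructor
        · intro h
          rw [inf_comm]
          have hlt : L ⊓ W < L := lt_of_le_of_ne inf_le_left fun e => h (inf_eq_left.1 e)
          have := Submodule.finrank_lt_finrank_of_lt hlt
          exact Submodule.finrank_eq_zero.1 (by omega)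
        · intro h hle
          rw [inf_eq_right.2 hle] at h
          rw [h, finrank_bot] at hL1
          exact zero_ne_one hL1
      rw [← Finset.sum_fiberwise _ (fun W : Submodule F U => W.map L.mkQ)]
      refine Finset.sum_congr rfl fun Wb _ => ?_
      have hrank : ∀ W : Submodule F U, W ⊓ L = ⊥ → W.map L.mkQ = Wb → finrank F W = finrank F Wb := by
        intro W h1 h2
        subst h2
        refine LinearEquiv.finrank_eq (LinearEquiv.ofBijective
          ((L.mkQ.comp W.subtype).codRestrict (W.map L.mkQ) fun y => Submodule.mem_map_of_mem y.2) ⟨?_, ?_⟩)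
        · rw [← LinearMap.ker_eq_bot, LinearMap.ker_eq_bot']
          intro y hy
          have : L.mkQ (y : U) = 0 := congrArg Subtype.val hy
          rw [Submodule.mkQ_apply, Submodule.Quotient.mk_eq_zero] at this
          exact Subtype.ext ((Submodule.eq_bot_iff _).1 h1 y ⟨y.2, this⟩)
        · rintro ⟨_, y, hy, rfl⟩
          exact ⟨⟨y, hy⟩, rfl⟩
      rw [Finset.sum_congr rfl (g := fun _ => degP (Nat.card F) (finrank F Wb)) (fun W hW => by
        simp only [Finset.mem_filter, Finset.mem_univ, true_and] at hW
        rw [hrank W ((hmeet W).1 hW.1) hW.2]), Finset.sum_const, nsmul_eq_mul]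
      congr 1
      rw [Finset.filter_filter, ← Fintype.card_subtype, ← Nat.card_eq_fintype_card,
        Nat.card_congr (Equiv.subtypeEquivRight (q := fun W => W ⊓ L = ⊥ ∧ W.map L.mkQ = Wb)
          fun W => and_congr_left' (hmeet W)), card_lift, Module.natCard_eq_pow_finrank (K := F),
        Module.finrank_linearMap, hL1, mul_one, Nat.cast_pow]
    rw [hA, hB, ← Finset.sum_add_distrib,
      Finset.sum_congr rfl fun Wb _ => (add_comm _ _).trans (degP_succ _ _), Finset.sum_add_distrib,
      ih _ hq, Nat.cast_succ]
    congr 1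
    rw [Finset.sum_eq_single (⊥ : Submodule F (U ⧸ L)) (fun b _ hb => if_neg fun h =>
      hb (Submodule.finrank_eq_zero.1 h)) (fun h => absurd (Finset.mem_univ _) h), if_pos (finrank_bot F _)]

variable {φ}

theorem rho_one {M : ℕ} (hφ : IsLift M φ) : ∀ (n : ℕ) {U : Type v} [AddCommGroup U] [Module F U]
    [FiniteDimensional F U], finrank F U = n → rho φ (1 : Module.End F U) = degP (Nat.card F) n := by
  intro n
  induction n using Nat.strong_induction_on with
  | _ n ih =>
    intro U _ _ _ hn
    classical
    have := finite_submodule (F := F) U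
    have := Fintype.ofFinite (Submodule F U)
    have hC : Cval φ (1 : Module.End F U) = (n : ℂ) := by
      rw [Cval, cv, LinearMap.charpoly_one, Polynomial.map_pow, Polynomial.map_sub, map_X, Polynomial.map_one,
        show ((X - 1 : (Kl F)[X])) = X - Polynomial.C 1 by simp, roots_pow, roots_X_sub_C,
        Multiset.map_nsmul, Multiset.sum_nsmul]
      simp [hφ.map_one, hn]
    have hsum := sum_degP n U hn
    rw [← Finset.add_sum_erase _ _ (Finset.mem_univ (⊤ : Submodule F U)), finrank_top, hn] at hsum
    rw [rho_eq, finsum_eq_sum_of_fintype, hC, ← Finset.add_sum_erase _ _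
      (Finset.mem_univ (⊤ : Submodule F U)), if_pos rfl, zero_add, Finset.sum_congr rfl (g := fun W : Submodule F U =>
        degP (Nat.card F) (finrank F W)) (fun W hW => by
      have hne := Finset.ne_of_mem_erase hW
      have hst : ∀ x ∈ W, (1 : Module.End F U) x ∈ W := fun x hx => hx
      rw [if_neg hne, rhoOn, dif_pos hst]
      exact ih _ (hn ▸ Submodule.finrank_lt hne) rfl), ← hsum]
    ring

end degree

end Cfsg.Agent.GLCusp
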