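/-
Cuspidality of `rho`: its sums over the translates of an endomorphism by `Hom(V/X, X)` vanish.
* `tr`, `sum_rho_translate`
-/
import Cfsg.Agent.Lib.GLCusp.Rho

set_option autoImplicit false

namespace Cfsg.Agent.GLCusp

open Polynomial Module Cfsg

universe u v

variable {F : Type u} [Field F] {V : Type v} [AddCommGroup V] [Module F V]

/-- The endomorphism `v ↦ c (v mod X)`. -/
def tr (X : Submodule F V) (c : (V ⧸ X) →ₗ[F] X) : Module.End F V :=
  X.subtype.comp (c.comp X.mkQ)

theorem tr_apply (X : Submodule F V) (c : (V ⧸ X) →ₗ[F] X) (x : V) :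
    tr X c x = (c (Submodule.Quotient.mk x) : V) := rfl

theorem tr_mem (X : Submodule F V) (c : (V ⧸ X) →ₗ[F] X) (x : V) : tr X c x ∈ X :=
  (c (Submodule.Quotient.mk x)).2

theorem tr_of_mem (X : Submodule F V) (c : (V ⧸ X) →ₗ[F] X) {x : V} (hx : x ∈ X) : tr X c x = 0 := by
  rw [tr_apply, (Submodule.Quotient.mk_eq_zero X).2 hx, map_zero, Submodule.coe_zero]

theorem tr_add (X : Submodule F V) (c d : (V ⧸ X) →ₗ[F] X) : tr X (c + d) = tr X c + tr X d := by
  ext x; simp [tr]

theorem invt_add_tr {f : Module.End F V} {X : Submodule F V} (hX : ∀ x ∈ X, f x ∈ X)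
    (c : (V ⧸ X) →ₗ[F] X) : ∀ x ∈ X, (f + tr X c) x ∈ X := fun x hx =>
  X.add_mem (hX x hx) (tr_mem X c x)

theorem restrict_add_tr {f : Module.End F V} {X : Submodule F V} (hX : ∀ x ∈ X, f x ∈ X)
    (c : (V ⧸ X) →ₗ[F] X) : (f + tr X c).restrict (invt_add_tr hX c) = f.restrict hX :=
  LinearMap.ext fun x => Subtype.ext (by
    rw [LinearMap.restrict_coe_apply, LinearMap.restrict_coe_apply, LinearMap.add_apply,
      tr_of_mem X c x.2, add_zero])

theorem mapQ_add_tr {f : Module.End F V} {X : Submodule F V} (hX : ∀ x ∈ X, f x ∈ X)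
    (c : (V ⧸ X) →ₗ[F] X) : X.mapQ X (f + tr X c) (invt_add_tr hX c) = X.mapQ X f hX := by
  apply Submodule.linearMap_qext
  ext x
  show Submodule.Quotient.mk ((f + tr X c) x) = Submodule.Quotient.mk (f x)
  rw [LinearMap.add_apply, Submodule.Quotient.mk_add, (Submodule.Quotient.mk_eq_zero X).2 (tr_mem X c x),
    add_zero]

theorem Cval_add_tr (φ : Kl F → ℂ) [FiniteDimensional F V] {f : Module.End F V} {X : Submodule F V}
    (hX : ∀ x ∈ X, f x ∈ X) (c : (V ⧸ X) →ₗ[F] X) :
    Cval φ (f + tr X c) = Cval φ (f.restrict hX) + Cval φ (X.mapQ X f hX) := by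
  rw [Cval_restrict_mapQ φ _ X (invt_add_tr hX c), restrict_add_tr hX, mapQ_add_tr hX]

theorem charpoly_add_tr [FiniteDimensional F V] {f : Module.End F V} {X : Submodule F V}
    (hX : ∀ x ∈ X, f x ∈ X) (c : (V ⧸ X) →ₗ[F] X) : (f + tr X c).charpoly = f.charpoly := by
  rw [charpoly_restrict_mapQ _ X (invt_add_tr hX c), restrict_add_tr hX, mapQ_add_tr hX,
    ← charpoly_restrict_mapQ f X hX]

variable [FiniteDimensional F V] [Finite F]

theorem finite_hom (X : Submodule F V) : Finite ((V ⧸ X) →ₗ[F] X) := Module.finite_of_finite F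

/-- The number of lifts times the number of maps vanishing on a subspace. -/
theorem card_hom_eq (X : Submodule F V) (Wb : Submodule F (V ⧸ X)) :
    Nat.card ((V ⧸ X) →ₗ[F] X) =
      Nat.card (Wb →ₗ[F] X) * Nat.card {c : (V ⧸ X) →ₗ[F] X // ∀ y ∈ Wb, c y = 0} := by
  classical
  choose ext hext using fun d : Wb →ₗ[F] X => LinearMap.exists_extend d
  rw [← Nat.card_prod]
  refine Nat.card_congr
    { toFun := fun c => (c.comp Wb.subtype, ⟨c - ext (c.comp Wb.subtype), fun y hy => ?_⟩)
      invFun := fun p => ext p.1 + p.2.1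
      left_inv := fun c => by simp
      right_inv := fun p => ?_ }
  · have := LinearMap.congr_fun (hext (c.comp Wb.subtype)) ⟨y, hy⟩
    simp only [LinearMap.comp_apply, Submodule.subtype_apply] at this
    simp [this]
  · obtain ⟨d, k, hk⟩ := p
    have h1 : (ext d + k).comp Wb.subtype = d := by
      ext y
      have := LinearMap.congr_fun (hext d) y
      simp only [LinearMap.comp_apply, Submodule.subtype_apply] at this
      simp [this, hk y y.2]
    refine Prod.ext h1 (Subtype.ext ?_)
    simp [h1]

variable {φ : Kl F → ℂ}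

open Classical in
theorem sum_rho_translate : ∀ (n : ℕ) {U : Type v} [AddCommGroup U] [Module F U] [FiniteDimensional F U],
    finrank F U = n → ∀ (f : Module.End F U) (X : Submodule F U), (∀ x ∈ X, f x ∈ X) → X ≠ ⊥ → X ≠ ⊤ →
      ∀ [Fintype ((U ⧸ X) →ₗ[F] X)], ∑ c : (U ⧸ X) →ₗ[F] X, rho φ (f + tr X c) = 0 := by
  intro n
  induction n using Nat.strong_induction_on with
  | _ n ih =>
    intro U _ _ _ hn f X hX hXb hXt _
    have := finite_submodule (F := F) U
    have := Fintype.ofFinite (Submodule F U)
    have := finite_submodule (F := F) (U ⧸ X)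
    have := Fintype.ofFinite (Submodule F (U ⧸ X))
    have := finite_submodule (F := F) X
    have := Fintype.ofFinite (Submodule F X)
    set a := f.restrict hX with ha
    set b := X.mapQ X f hX with hb
    let S : Submodule F U → ℂ := fun W => ∑ c : (U ⧸ X) →ₗ[F] X, rhoOn φ (f + tr X c) W
    have hS : ∑ W, S W = (Fintype.card ((U ⧸ X) →ₗ[F] X) : ℂ) * (Cval φ a + Cval φ b) := by
      simp only [S]
      rw [Finset.sum_comm, Finset.sum_congr rfl fun c _ => (Cval_eq_sum φ (f + tr X c)).symm.trans
        (Cval_add_tr φ hX c), Finset.sum_const, Finset.card_univ, nsmul_eq_mul]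
    -- subspaces of `X`
    have hA : ∑ W ∈ Finset.univ.filter (fun W : Submodule F U => W ≤ X), S W =
        (Fintype.card ((U ⧸ X) →ₗ[F] X) : ℂ) * Cval φ a := by
      rw [Cval_eq_sum φ a, Finset.mul_sum]
      refine (Finset.sum_bij (fun Y _ => Y.map X.subtype) (fun Y _ => ?_) (fun Y _ Z _ h => ?_)
        (fun W hW => ?_) fun Y _ => ?_).symm
      · exact Finset.mem_filter.2 ⟨Finset.mem_univ _, Submodule.map_subtype_le X Y⟩
      · exact Submodule.map_injective_of_injective X.injective_subtype h
      · exact ⟨W.comap X.subtype, Finset.mem_univ _, by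
          rw [Submodule.map_comap_subtype, inf_eq_right.2 (Finset.mem_filter.1 hW).2]⟩
      · simp only [S]
        rw [Finset.sum_congr rfl (g := fun _ => rhoOn φ a Y) fun c _ => ?_, Finset.sum_const,
          Finset.card_univ, nsmul_eq_mul]
        have hst : (∀ x ∈ Y.map X.subtype, (f + tr X c) x ∈ Y.map X.subtype) ↔ ∀ y ∈ Y, a y ∈ Y := by
          constructor
          · intro h y hy
            obtain ⟨z, hz, e⟩ := h _ ⟨y, hy, rfl⟩
            rw [LinearMap.add_apply, Submodule.subtype_apply, Submodule.subtype_apply, tr_of_mem X c y.2,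
              add_zero] at e
            have : z = a y := Subtype.ext e
            exact this ▸ hz
          · rintro h _ ⟨y, hy, rfl⟩
            refine ⟨a y, h y hy, ?_⟩
            rw [LinearMap.add_apply, Submodule.subtype_apply, Submodule.subtype_apply, tr_of_mem X c y.2,
              add_zero]
            rfl
        unfold rhoOn
        by_cases h : ∀ y ∈ Y, a y ∈ Y
        · rw [dif_pos h, dif_pos (hst.2 h)]
          refine (rho_sim φ (Submodule.equivMapOfInjective _ X.injective_subtype Y) fun y =>
            Subtype.ext ?_).symm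
          show ((a (y : X) : X) : U) = (f + tr X c) ((y : X) : U)
          rw [LinearMap.add_apply, tr_of_mem X c (y : X).2, add_zero]
          rfl
        · rw [dif_neg h, dif_neg fun h' => h (hst.1 h')]
    -- subspaces meeting `X` trivially
    have hB : ∑ W ∈ Finset.univ.filter (fun W : Submodule F U => W ⊓ X = ⊥), S W =
        (Fintype.card ((U ⧸ X) →ₗ[F] X) : ℂ) * Cval φ b := by
      rw [Cval_eq_sum φ b, Finset.mul_sum, ← Finset.sum_fiberwise _ (fun W : Submodule F U => W.map X.mkQ)]
      refine Finset.sum_congr rfl fun Wb _ => ?_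
      by_cases hbW : ∀ y ∈ Wb, b y ∈ Wb
      · rw [Finset.sum_congr rfl (g := fun _ =>
          (Nat.card {c : (U ⧸ X) →ₗ[F] X // ∀ y ∈ Wb, c y = 0} : ℂ) * rhoOn φ b Wb) fun W hW => ?_,
          Finset.sum_const, nsmul_eq_mul, ← mul_assoc, ← Nat.cast_mul]
        · congr 2
          rw [← Nat.card_eq_fintype_card, card_hom_eq X Wb, ← card_lift X Wb, Finset.filter_filter,
            ← Fintype.card_subtype, ← Nat.card_eq_fintype_card]
        · simp only [Finset.mem_filter, Finset.mem_univ, true_and] at hW
          obtain ⟨hW1, rfl⟩ := hW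
          let π : W →ₗ[F] W.map X.mkQ :=
            (X.mkQ.comp W.subtype).codRestrict (W.map X.mkQ) fun y => Submodule.mem_map_of_mem y.2
          have hπ : Function.Bijective π := by
            constructor
            · rw [← LinearMap.ker_eq_bot, LinearMap.ker_eq_bot']
              intro y hy
              have : X.mkQ (y : U) = 0 := congrArg Subtype.val hy
              rw [Submodule.mkQ_apply, Submodule.Quotient.mk_eq_zero] at this
              exact Subtype.ext ((Submodule.eq_bot_iff _).1 hW1 y ⟨y.2, this⟩)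
            · rintro ⟨_, y, hy, rfl⟩
              exact ⟨⟨y, hy⟩, rfl⟩
          let e := LinearEquiv.ofBijective π hπ
          have hes : ∀ y, X.mkQ ((e.symm y : W) : U) = (y : U ⧸ X) := fun y =>
            congrArg Subtype.val (e.apply_symm_apply y)
          let c' : W.map X.mkQ →ₗ[F] X :=
            (W.subtype.comp (e.symm.toLinearMap.comp (b.restrict hbW)) -
              f.comp (W.subtype.comp e.symm.toLinearMap)).codRestrict X fun y => by
              rw [← Submodule.Quotient.mk_eq_zero, ← Submodule.mkQ_apply, LinearMap.sub_apply, map_sub,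
                sub_eq_zero]
              refine (hes _).trans ?_
              show b (y : U ⧸ X) = Submodule.Quotient.mk (f ((e.symm y : W) : U))
              rw [← hes y]
              rfl
          obtain ⟨c0, hc0⟩ := LinearMap.exists_extend c'
          have hc0' : ∀ x (hx : x ∈ W), (f + tr X c0) x = (e.symm (b.restrict hbW (e ⟨x, hx⟩)) : W) := by
            intro x hx
            have h := congrArg Subtype.val (LinearMap.congr_fun hc0 (e ⟨x, hx⟩))
            rw [LinearMap.add_apply, tr_apply]
            refine (congrArg (f x + ·) h).trans ?_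
            show f x + (_ - f ((e.symm (e ⟨x, hx⟩) : W) : U)) = _
            rw [e.symm_apply_apply, add_sub_cancel]
            rfl
          have hiff : ∀ c, (∀ x ∈ W, (f + tr X c) x ∈ W) ↔ ∀ y ∈ W.map X.mkQ, (c - c0) y = 0 := by
            intro c
            constructor
            · rintro h _ ⟨x, hx, rfl⟩
              have h1 : ((c - c0) (X.mkQ x) : U) ∈ W := by
                have h2 := W.sub_mem (h x hx) (hc0' x hx ▸ Subtype.coe_prop _ : (f + tr X c0) x ∈ W)
                simpa [tr_apply, LinearMap.add_apply] using h2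
              exact Subtype.ext ((Submodule.eq_bot_iff _).1 hW1 _ ⟨h1, Subtype.coe_prop _⟩)
            · intro h x hx
              have h1 := h _ ⟨x, hx, rfl⟩
              rw [LinearMap.sub_apply, sub_eq_zero] at h1
              rw [LinearMap.add_apply, tr_apply, ← Submodule.mkQ_apply, h1, Submodule.mkQ_apply,
                ← tr_apply, ← LinearMap.add_apply, hc0' x hx]
              exact Subtype.coe_prop _
          have hval : ∀ c, rhoOn φ (f + tr X c) W =
              if (∀ y ∈ W.map X.mkQ, (c - c0) y = 0) then rhoOn φ b (W.map X.mkQ) else 0 := by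
            intro c
            by_cases h : ∀ y ∈ W.map X.mkQ, (c - c0) y = 0
            · rw [if_pos h, rhoOn, dif_pos ((hiff c).2 h), rhoOn, dif_pos hbW]
              refine rho_sim φ e fun x => Subtype.ext ?_
              show X.mkQ ((f + tr X c) (x : U)) = b (X.mkQ (x : U))
              rw [hb, ← mapQ_add_tr hX c]
              rfl
            · rw [if_neg h, rhoOn, dif_neg fun h' => h ((hiff c).1 h')]
          simp only [S]
          rw [Finset.sum_congr rfl fun c _ => hval c, Finset.sum_ite, Finset.sum_const_zero, add_zero,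
            Finset.sum_const, nsmul_eq_mul, ← Fintype.card_subtype, ← Nat.card_eq_fintype_card]
          congr 2
          exact Nat.card_congr ((Equiv.subRight c0).subtypeEquiv fun c => Iff.rfl)
      · rw [rhoOn, dif_neg hbW, mul_zero]
        refine Finset.sum_eq_zero fun W hW => Finset.sum_eq_zero fun c _ => ?_
        rw [rhoOn, dif_neg]
        intro h
        apply hbW
        obtain rfl := (Finset.mem_filter.1 hW).2
        rintro _ ⟨x, hx, rfl⟩
        refine ⟨(f + tr X c) x, h x hx, ?_⟩
        rw [hb, ← mapQ_add_tr hX c]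
        rfl
    -- the other proper subspaces
    have hC : ∀ W : Submodule F U, W ≠ ⊤ → ¬ W ≤ X → W ⊓ X ≠ ⊥ → S W = 0 := by
      intro W hWt hWX hWi
      set Y : Submodule F W := X.comap W.subtype with hY
      have hYb : Y ≠ ⊥ := by
        obtain ⟨x, hx, hx0⟩ := Submodule.exists_mem_ne_zero_of_ne_bot hWi
        exact Submodule.ne_bot_iff _ |>.2 ⟨⟨x, hx.1⟩, hx.2, fun e => hx0 (congrArg Subtype.val e)⟩
      have hYt : Y ≠ ⊤ := fun e => hWX fun x hx =>
        (e.symm ▸ Submodule.mem_top : (⟨x, hx⟩ : W) ∈ Y)
      let θ : (W ⧸ Y) →ₗ[F] (U ⧸ X) := Y.mapQ X W.subtype le_rfl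
      have hθ : LinearMap.ker θ = ⊥ := by
        rw [LinearMap.ker_eq_bot']
        intro y hy
        induction y using Submodule.Quotient.induction_on with
        | _ x =>
          rw [Submodule.Quotient.mk_eq_zero]
          exact (Submodule.Quotient.mk_eq_zero X).1 hy
      obtain ⟨η, hη⟩ := θ.exists_leftInverse_of_injective hθ
      let incl : Y →ₗ[F] X := (W.subtype.comp Y.subtype).codRestrict X fun y => y.2
      let l : ((W ⧸ Y) →ₗ[F] Y) → ((U ⧸ X) →ₗ[F] X) := fun χ => incl.comp (χ.comp η)
      have hl : ∀ χ (x : W), (tr X (l χ) (x : U)) = ((tr Y χ x : W) : U) := by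
        intro χ x
        have h := LinearMap.congr_fun hη (Submodule.Quotient.mk x)
        simp only [LinearMap.comp_apply, LinearMap.id_apply] at h
        show ((χ (η (θ (Submodule.Quotient.mk x))) : W) : U) = _
        rw [h]
        rfl
      have hlW : ∀ χ (z : U), tr X (l χ) z ∈ W := fun χ z => Subtype.coe_prop _
      have := finite_hom Y
      have := Fintype.ofFinite ((W ⧸ Y) →ₗ[F] Y)
      have hzero : ∀ c, ∑ χ : (W ⧸ Y) →ₗ[F] Y, rhoOn φ (f + tr X (c + l χ)) W = 0 := by
        intro c
        by_cases h : ∀ x ∈ W, (f + tr X c) x ∈ W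
        · set g := (f + tr X c).restrict h with hg
          have hgY : ∀ y ∈ Y, g y ∈ Y := fun y hy => invt_add_tr hX c _ hy
          rw [Finset.sum_congr rfl (g := fun χ => rho φ (g + tr Y χ)) fun χ _ => ?_]
          · exact ih _ (hn ▸ Submodule.finrank_lt hWt) rfl g Y hgY hYb hYt
          · have h' : ∀ x ∈ W, (f + tr X (c + l χ)) x ∈ W := fun x hx => by
              rw [tr_add, ← add_assoc, LinearMap.add_apply]
              exact W.add_mem (h x hx) (hlW χ x)
            rw [rhoOn, dif_pos h']
            congr 1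
            refine LinearMap.ext fun x => Subtype.ext ?_
            rw [LinearMap.restrict_coe_apply, tr_add, ← add_assoc, LinearMap.add_apply, hl χ x]
            rfl
        · refine Finset.sum_eq_zero fun χ _ => ?_
          rw [rhoOn, dif_neg]
          intro h'
          refine h fun x hx => ?_
          have := h' x hx
          rw [tr_add, ← add_assoc, LinearMap.add_apply] at this
          exact (W.add_mem_iff_left (hlW χ x)).1 this
      have hshift : ∀ χ, ∑ c : (U ⧸ X) →ₗ[F] X, rhoOn φ (f + tr X (c + l χ)) W = S W := fun χ =>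
        Fintype.sum_equiv (Equiv.addRight (l χ)) _ _ fun c => rfl
      have h2 : (Fintype.card ((W ⧸ Y) →ₗ[F] Y) : ℂ) * S W = 0 := by
        rw [← nsmul_eq_mul, ← Finset.card_univ, ← Finset.sum_const, ← Finset.sum_congr rfl fun χ _ => hshift χ,
          Finset.sum_comm]
        exact Finset.sum_eq_zero fun c _ => hzero c
      exact (mul_eq_zero.1 h2).resolve_left (Nat.cast_ne_zero.2 Fintype.card_ne_zero)
    have hsplit : ∀ W : Submodule F U, S W = (if W = ⊤ then S W else 0) +
        ((if W ≤ X then S W else 0) + if W ⊓ X = ⊥ then S W else 0) := by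
      intro W
      by_cases h1 : W = ⊤
      · subst h1
        rw [if_pos rfl, if_neg (fun h => hXt (top_le_iff.1 h)), if_neg (by rw [top_inf_eq]; exact hXb)]
        ring
      rw [if_neg h1, zero_add]
      by_cases h2 : W ≤ X <;> by_cases h3 : W ⊓ X = ⊥
      · have : W = ⊥ := by rwa [inf_eq_left.2 h2] at h3
        subst this
        have h0 : S (⊥ : Submodule F U) = 0 := Finset.sum_eq_zero fun c _ => rhoOn_bot φ _
        simp [h0]
      · rw [if_pos h2, if_neg h3, add_zero]
      · rw [if_neg h2, if_pos h3, zero_add]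
      · rw [if_neg h2, if_neg h3, add_zero, hC W h1 h2 h3]
    rw [Finset.sum_congr rfl fun W _ => hsplit W, Finset.sum_add_distrib, Finset.sum_add_distrib,
      ← Finset.sum_filter, ← Finset.sum_filter, ← Finset.sum_filter, hA, hB, mul_add, add_eq_right,
      Finset.filter_eq', if_pos (Finset.mem_univ _), Finset.sum_singleton] at hS
    rw [← hS]
    exact Finset.sum_congr rfl fun c _ => (rhoOn_top φ _).symm

end Cfsg.Agent.GLCusp
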