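/-
Values of `rho` on cyclic endomorphisms and sums over endomorphisms with given characteristic polynomial.
* `Rval`, `rho_Cyc`
* `sum_rho_charpoly`
* `sum_rho_mul_conj`: orthogonality to functions induced from proper parabolics
-/
import Cfsg.Agent.Lib.GLCusp.Cuspidal
import Cfsg.Agent.Lib.SLComm.Cyc
import Mathlib.Algebra.Polynomial.FieldDivision

set_option autoImplicit false

namespace Cfsg.Agent.GLCusp

open Polynomial Module Cfsg SLComm
open scoped ComplexConjugate

universe u v

variable {F : Type u} [Field F]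

open Classical in
/-- The sum over the roots of `P` at the powers of the monic irreducible `P`, zero elsewhere. -/
noncomputable def Rval (φ : Kl F → ℂ) (h : F[X]) : ℂ :=
  if H : ∃ P : F[X], P.Monic ∧ Irreducible P ∧ ∃ j, 0 < j ∧ h = P ^ j then cv φ H.choose else 0

theorem pow_inj_irreducible {P Q : F[X]} (hP : P.Monic) (hPi : Irreducible P) (hQ : Q.Monic)
    (hQi : Irreducible Q) {i j : ℕ} (hi : 0 < i) (h : P ^ i = Q ^ j) : P = Q ∧ i = j := by
  have hdvd : P ∣ Q := hPi.prime.dvd_of_dvd_pow (h ▸ dvd_pow_self P hi.ne')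
  obtain rfl := eq_of_monic_of_associated hP hQ (hPi.associated_of_dvd hQi hdvd)
  refine ⟨rfl, ?_⟩
  have h2 := congrArg natDegree h
  rw [natDegree_pow, natDegree_pow] at h2
  exact Nat.eq_of_mul_eq_mul_right hPi.natDegree_pos h2

theorem Rval_pow (φ : Kl F → ℂ) {P : F[X]} (hP : P.Monic) (hPi : Irreducible P) {j : ℕ} (hj : 0 < j) :
    Rval φ (P ^ j) = cv φ P := by
  have H : ∃ Q : F[X], Q.Monic ∧ Irreducible Q ∧ ∃ i, 0 < i ∧ P ^ j = Q ^ i := ⟨P, hP, hPi, j, hj, rfl⟩
  rw [Rval, dif_pos H]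
  obtain ⟨h1, h2, i, -, h4⟩ := H.choose_spec
  rw [← (pow_inj_irreducible hP hPi h1 h2 hj h4).1]

theorem Rval_eq_zero (φ : Kl F → ℂ) {h : F[X]}
    (H : ¬ ∃ P : F[X], P.Monic ∧ Irreducible P ∧ ∃ j, 0 < j ∧ h = P ^ j) : Rval φ h = 0 := by
  rw [Rval, dif_neg H]

theorem Rval_one (φ : Kl F → ℂ) : Rval φ (1 : F[X]) = 0 := by
  refine Rval_eq_zero φ fun ⟨P, hP, hPi, j, hj, h⟩ => ?_
  have := congrArg natDegree h
  rw [natDegree_one, natDegree_pow] at this
  have := Nat.mul_pos hj hPi.natDegree_pos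
  omega

theorem cv_multiset_prod (φ : Kl F → ℂ) (s : Multiset F[X]) (hs : ∀ P ∈ s, P ≠ 0) :
    cv φ s.prod = (s.map (cv φ)).sum := by
  induction s using Multiset.induction_on with
  | empty => simp [cv_one]
  | cons P s ih =>
    have h2 : ∀ Q ∈ s, Q ≠ 0 := fun Q hQ => hs Q (Multiset.mem_cons_of_mem hQ)
    rw [Multiset.prod_cons, cv_mul φ (hs P (Multiset.mem_cons_self _ _))
      (Multiset.prod_ne_zero fun h0 => h2 0 h0 rfl), ih h2, Multiset.map_cons, Multiset.sum_cons]

/-- Summing `Rval` over the monic divisors gives the sum over the roots. -/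
theorem sum_Rval (φ : Kl F → ℂ) {h : F[X]} (hm : h.Monic) (D : Finset F[X])
    (hD : ∀ g, g ∈ D ↔ g.Monic ∧ g ∣ h) : ∑ g ∈ D, Rval φ g = cv φ h := by
  classical
  open UniqueFactorizationMonoid in
  set s := normalizedFactors h with hs
  have hmem : ∀ P ∈ s, Irreducible P ∧ P.Monic ∧ P ∣ h := fun P hP =>
    (Polynomial.mem_normalizedFactors_iff hm.ne_zero).1 hP
  have hprod : s.prod = h := by
    have := leadingCoeff_mul_prod_normalizedFactors h
    rwa [hm.leadingCoeff, map_one, one_mul] at this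
  conv_rhs => rw [← hprod, cv_multiset_prod φ s fun P hP => (hmem P hP).1.ne_zero,
    Finset.sum_multiset_map_count]
  have hdvd : ∀ {P : F[X]}, P.Monic → Irreducible P → ∀ j : ℕ, P ^ j ∣ h ↔ j ≤ s.count P := by
    intro P hP hPi j
    rw [UniqueFactorizationMonoid.dvd_iff_normalizedFactors_le_normalizedFactors
      (pow_ne_zero _ hPi.ne_zero) hm.ne_zero, UniqueFactorizationMonoid.normalizedFactors_pow,
      UniqueFactorizationMonoid.normalizedFactors_irreducible hPi, hP.normalize_eq_self,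
      Multiset.nsmul_singleton, ← Multiset.le_count_iff_replicate_le, hs]
  have hrhs : ∑ P ∈ s.toFinset, s.count P • cv φ P =
      ∑ t ∈ s.toFinset.sigma (fun P => Finset.Icc 1 (s.count P)), cv φ t.1 := by
    rw [Finset.sum_sigma]
    exact Finset.sum_congr rfl fun P _ => by simp
  rw [hrhs, ← Finset.sum_filter_of_ne (p := fun g => ∃ P : F[X], P.Monic ∧ Irreducible P ∧ ∃ j, 0 < j ∧ g = P ^ j)
    (fun g _ hg => by by_contra H; exact hg (Rval_eq_zero φ H))]
  symm
  refine Finset.sum_bij (fun t _ => t.1 ^ t.2) (fun t ht => ?_) (fun t ht t' ht' e => ?_)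
    (fun g hg => ?_) fun t ht => ?_
  · obtain ⟨h1, h2⟩ := Finset.mem_sigma.1 ht
    obtain ⟨h3, h4⟩ := Finset.mem_Icc.1 h2
    obtain ⟨hi, hmP, -⟩ := hmem _ (Multiset.mem_toFinset.1 h1)
    exact Finset.mem_filter.2 ⟨(hD _).2 ⟨hmP.pow _, (hdvd hmP hi _).2 h4⟩, t.1, hmP, hi, t.2, h3, rfl⟩
  · obtain ⟨h1, h2⟩ := Finset.mem_sigma.1 ht
    obtain ⟨h1', -⟩ := Finset.mem_sigma.1 ht'
    obtain ⟨hi, hmP, -⟩ := hmem _ (Multiset.mem_toFinset.1 h1)
    obtain ⟨hi', hmP', -⟩ := hmem _ (Multiset.mem_toFinset.1 h1')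
    obtain ⟨e1, e2⟩ := pow_inj_irreducible hmP hi hmP' hi' (Finset.mem_Icc.1 h2).1 e
    exact Sigma.ext e1 (heq_of_eq e2)
  · obtain ⟨hg1, P, hmP, hi, j, hj, rfl⟩ := Finset.mem_filter.1 hg
    have hle := (hdvd hmP hi j).1 ((hD _).1 hg1).2
    exact ⟨⟨P, j⟩, Finset.mem_sigma.2 ⟨Multiset.mem_toFinset.2 (Multiset.count_pos.1 (lt_of_lt_of_le hj hle)),
      Finset.mem_Icc.2 ⟨hj, hle⟩⟩, rfl⟩
  · obtain ⟨h1, h2⟩ := Finset.mem_sigma.1 ht
    obtain ⟨hi, hmP, -⟩ := hmem _ (Multiset.mem_toFinset.1 h1)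
    exact (Rval_pow φ hmP hi (Finset.mem_Icc.1 h2).1).symm

theorem rho_congr (φ : Kl F → ℂ) {U U' : Type u} [AddCommGroup U] [Module F U] [FiniteDimensional F U]
    [AddCommGroup U'] [Module F U'] [FiniteDimensional F U'] {f : Module.End F U} {g : Module.End F U'}
    (h : Sim f g) : rho φ f = rho φ g := by
  obtain ⟨e, he⟩ := h
  exact rho_sim φ e he

variable [Finite F]

theorem finite_divisors {h : F[X]} (hh : h ≠ 0) : {g : F[X] | g.Monic ∧ g ∣ h}.Finite := by
  refine Set.Finite.subset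
    ((Set.finite_range fun c : Fin (h.natDegree + 1) → F => ∑ i : Fin (h.natDegree + 1), C (c i) * X ^ (i : ℕ))) ?_
  rintro g ⟨-, hg⟩
  refine ⟨fun i => g.coeff i, ?_⟩
  have := natDegree_le_of_dvd hg hh
  simp only
  rw [Fin.sum_univ_eq_sum_range (fun i => C (g.coeff i) * X ^ i)]
  exact (g.as_sum_range_C_mul_X_pow' (by omega)).symm

variable {φ : Kl F → ℂ}

/-- The value of `rho` on a cyclic endomorphism. -/
theorem rho_Cyc : ∀ (n : ℕ) {h : F[X]} (hm : h.Monic), h.natDegree = n →
    (haveI := hm.finite_adjoinRoot; rho φ (Cyc h)) = Rval φ h := by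
  intro n
  induction n using Nat.strong_induction_on with
  | _ n ih =>
    intro h hm hn
    classical
    haveI := hm.finite_adjoinRoot
    have := finite_submodule (F := F) (AdjoinRoot h)
    have := Fintype.ofFinite (Submodule F (AdjoinRoot h))
    set D := (finite_divisors hm.ne_zero).toFinset with hDdef
    have hD : ∀ g, g ∈ D ↔ g.Monic ∧ g ∣ h := fun g => (finite_divisors hm.ne_zero).mem_toFinset
    let co : F[X] → F[X] := fun g => h / g
    have hco : ∀ g ∈ D, g * co g = h ∧ (co g).Monic := fun g hg => by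
      obtain ⟨hgm, hgd⟩ := (hD g).1 hg
      have e : g * co g = h := EuclideanDomain.mul_div_cancel' hgm.ne_zero hgd
      exact ⟨e, hgm.of_mul_monic_left (e.symm ▸ hm)⟩
    let L : F[X] → Submodule F (AdjoinRoot h) := fun g => cspan (Cyc h) (AdjoinRoot.mk h g)
    have haev : ∀ g G : F[X], aeval (Cyc h) G (AdjoinRoot.mk h g) = AdjoinRoot.mk h (G * g) := fun g G => by
      rw [aeval_Cyc, LinearMap.mulLeft_apply, map_mul]
    have hL : ∀ g x, x ∈ L g ↔ ∃ G, AdjoinRoot.mk h (G * g) = x := fun g x => by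
      simp only [L, mem_cspan, haev]
    have hval : ∀ g (hg : g ∈ D), rhoOn φ (Cyc h) (L g) =
        (haveI := (hco g hg).2.finite_adjoinRoot; rho φ (Cyc (co g))) := by
      intro g hg
      haveI := (hco g hg).2.finite_adjoinRoot
      obtain ⟨e1, hcm⟩ := hco g hg
      have hst : ∀ x ∈ L g, Cyc h x ∈ L g := map_mem_cspan
      have hkill : aeval (Cyc h) (co g) (AdjoinRoot.mk h g) = 0 := by
        rw [haev, mul_comm, e1, AdjoinRoot.mk_self]
      rw [rhoOn, dif_pos hst]
      refine rho_congr φ (Sim.symm ?_)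
      have hrange : ∀ x, evMap (Cyc h) (AdjoinRoot.mk h g) hcm x ∈ L g := fun x => by
        induction x using AdjoinRoot.induction_on with
        | _ G => rw [evMap_mk hcm hkill]; exact ⟨G, rfl⟩
      refine ⟨LinearEquiv.ofBijective ((evMap (Cyc h) (AdjoinRoot.mk h g) hcm).codRestrict (L g) hrange)
        ⟨?_, ?_⟩, fun x => Subtype.ext (evMap_mul_root hcm hkill x)⟩
      · rw [← LinearMap.ker_eq_bot, LinearMap.ker_eq_bot']
        intro x hx
        have hx' := congrArg Subtype.val hx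
        induction x using AdjoinRoot.induction_on with
        | _ G =>
          rw [LinearMap.codRestrict_apply, evMap_mk hcm hkill, haev, Submodule.coe_zero,
            AdjoinRoot.mk_eq_zero] at hx'
          rw [AdjoinRoot.mk_eq_zero]
          rw [← e1, mul_comm g] at hx'
          exact (mul_dvd_mul_iff_right ((hD g).1 hg).1.ne_zero).1 hx'
      · rintro ⟨x, hx⟩
        obtain ⟨G, rfl⟩ := mem_cspan.1 hx
        exact ⟨AdjoinRoot.mk _ G, Subtype.ext (evMap_mk hcm hkill G)⟩
    have hinj : ∀ g ∈ D, ∀ g' ∈ D, L g = L g' → g = g' := by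
      have key : ∀ g ∈ D, ∀ g' ∈ D, L g = L g' → g' ∣ g := by
        intro g hg g' hg' e
        have h1 : AdjoinRoot.mk h g ∈ L g' := e ▸ self_mem_cspan _ _
        obtain ⟨G, hG⟩ := (hL g' _).1 h1
        rw [AdjoinRoot.mk_eq_mk] at hG
        have h2 : g' ∣ G * g' - (G * g' - g) := dvd_sub (dvd_mul_left g' G) (((hD g').1 hg').2.trans hG)
        rwa [sub_sub_cancel] at h2
      intro g hg g' hg' e
      exact eq_of_monic_of_associated ((hD g).1 hg).1 ((hD g').1 hg').1
        (associated_of_dvd_dvd (key g' hg' g hg e.symm) (key g hg g' hg' e))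
    have hsurj : ∀ W : Submodule F (AdjoinRoot h), (∀ x ∈ W, Cyc h x ∈ W) → ∃ g ∈ D, L g = W := by
      intro W hW
      let I : Ideal F[X] :=
        { carrier := {p | AdjoinRoot.mk h p ∈ W}
          add_mem' := fun {p q} hp hq => by simpa using W.add_mem hp hq
          zero_mem' := by simp
          smul_mem' := fun c p hp => by
            show AdjoinRoot.mk h (c * p) ∈ W
            rw [← haev p c]
            exact aeval_mem hW c _ hp }
      have hhI : h ∈ I := by show AdjoinRoot.mk h h ∈ W; simp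
      obtain ⟨g0, hg0⟩ := (IsPrincipalIdealRing.principal I).principal
      have hmemI : ∀ p, p ∈ I ↔ g0 ∣ p := fun p => by rw [hg0]; exact Ideal.mem_span_singleton
      have hg00 : g0 ≠ 0 := fun e => hm.ne_zero (zero_dvd_iff.1 (e ▸ (hmemI h).1 hhI))
      have hdiv : ∀ p, normalize g0 ∣ p ↔ g0 ∣ p := fun p => normalize_dvd_iff
      refine ⟨normalize g0, (hD _).2 ⟨monic_normalize hg00, (hdiv h).2 ((hmemI h).1 hhI)⟩, ?_⟩
      ext x
      induction x using AdjoinRoot.induction_on with
      | _ p =>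
        rw [hL]
        constructor
        · rintro ⟨G, hG⟩
          rw [← hG]
          exact (hmemI _).2 ((hdiv _).1 (dvd_mul_left _ G))
        · intro hp
          obtain ⟨c, rfl⟩ := (hdiv p).2 ((hmemI p).1 hp)
          exact ⟨c, by rw [mul_comm]⟩
    have hsum : cv φ h = ∑ g ∈ D, rhoOn φ (Cyc h) (L g) := by
      have h1 : Cval φ (Cyc h) = cv φ h := by rw [Cval, charpoly_Cyc hm]
      rw [← h1, Cval_eq_sum, ← Finset.sum_image hinj]
      refine (Finset.sum_subset (Finset.subset_univ _) fun W _ hW => ?_).symm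
      rw [rhoOn, dif_neg]
      intro hst
      obtain ⟨g, hg, rfl⟩ := hsurj W hst
      exact hW (Finset.mem_image_of_mem _ hg)
    have h1D : (1 : F[X]) ∈ D := (hD _).2 ⟨monic_one, one_dvd _⟩
    have hrest : ∑ g ∈ D.erase 1, rhoOn φ (Cyc h) (L g) = ∑ g ∈ D.erase h, Rval φ g := by
      refine Finset.sum_bij (fun g _ => co g) (fun g hg => ?_) (fun g hg g' hg' e => ?_) (fun g hg => ?_)
        fun g hg => ?_
      · obtain ⟨hne, hgD⟩ := Finset.mem_erase.1 hg
        refine Finset.mem_erase.2 ⟨fun e => hne ?_, (hD _).2 ⟨(hco g hgD).2, ⟨g, by rw [mul_comm, (hco g hgD).1]⟩⟩⟩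
        have := (hco g hgD).1
        rw [e] at this
        exact (mul_eq_right₀ hm.ne_zero).1 this
      · have h1 := (hco g (Finset.mem_of_mem_erase hg)).1
        have h2 := (hco g' (Finset.mem_of_mem_erase hg')).1
        rw [show co g' = co g from e.symm] at h2
        exact mul_right_cancel₀ (hco g (Finset.mem_of_mem_erase hg)).2.ne_zero (h1.trans h2.symm)
      · obtain ⟨hne, hgD⟩ := Finset.mem_erase.1 hg
        refine ⟨co g, Finset.mem_erase.2 ⟨fun e => hne ?_, (hD _).2 ⟨(hco g hgD).2, ⟨g, by rw [mul_comm, (hco g hgD).1]⟩⟩⟩, ?_⟩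
        · have := (hco g hgD).1
          rwa [e, mul_one] at this
        · have hc : co g ∈ D := (hD _).2 ⟨(hco g hgD).2, ⟨g, by rw [mul_comm, (hco g hgD).1]⟩⟩
          refine mul_left_cancel₀ (hco g hgD).2.ne_zero ?_
          rw [(hco _ hc).1, mul_comm, (hco g hgD).1]
      · obtain ⟨hne, hgD⟩ := Finset.mem_erase.1 hg
        rw [hval g hgD]
        refine ih _ ?_ (hco g hgD).2 rfl
        have hd := congrArg natDegree (hco g hgD).1
        rw [natDegree_mul ((hD g).1 hgD).1.ne_zero (hco g hgD).2.ne_zero, hn] at hd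
        have : g.natDegree ≠ 0 := fun e0 => hne (((hD g).1 hgD).1.natDegree_eq_zero.1 e0)
        omega
    have htop : rhoOn φ (Cyc h) (L 1) = rho φ (Cyc h) := by
      rw [show L 1 = ⊤ by simp [L, cspan_Cyc], rhoOn_top]
    have hfin := sum_Rval φ hm D hD
    rw [hsum, ← Finset.add_sum_erase D (fun g => rhoOn φ (Cyc h) (L g)) h1D, htop, hrest,
      ← Finset.add_sum_erase D (fun g => Rval φ g) ((hD h).2 ⟨hm, dvd_rfl⟩)] at hfin
    exact (add_right_cancel hfin).symm

section count

variable {U : Type u} [AddCommGroup U] [Module F U] [FiniteDimensional F U]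

theorem aeval_add_tr {f : Module.End F U} {X : Submodule F U} (hX : ∀ x ∈ X, f x ∈ X)
    (c : (U ⧸ X) →ₗ[F] X) (G : F[X]) {v : U} (hv : v ∈ X) : aeval (f + tr X c) G v = aeval f G v := by
  induction G using Polynomial.induction_on with
  | C a => simp [Module.algebraMap_end_apply]
  | add p q hp hq => simp [hp, hq]
  | monomial n a h =>
    rw [pow_succ', mul_left_comm, map_mul (aeval (f + tr X c)) Polynomial.X, map_mul (aeval f) Polynomial.X,
      aeval_X, aeval_X, Module.End.mul_apply, Module.End.mul_apply, h, LinearMap.add_apply,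
      tr_of_mem X c (aeval_mem hX _ v hv), add_zero]

variable (U) in
theorem finite_end : Finite (Module.End F U) := Module.finite_of_finite F

/-- The sum of `rho` over endomorphisms with a given characteristic polynomial. -/
theorem sum_rho_charpoly [Fintype (Module.End F U)] [DecidableEq F[X]] {h : F[X]} (hm : h.Monic)
    (hd : h.natDegree = finrank F U) (hpos : 0 < finrank F U) :
    ((Nat.card F : ℂ) ^ finrank F U - 1) *
        ∑ f ∈ Finset.univ.filter (fun f : Module.End F U => f.charpoly = h), rho φ f =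
      (Nat.card (U ≃ₗ[F] U) : ℂ) * Rval φ h := by
  classical
  have : Finite U := Module.finite_of_finite F
  have := Fintype.ofFinite U
  haveI := hm.finite_adjoinRoot
  set S := Finset.univ.filter (fun f : Module.End F U => f.charpoly = h) with hS
  have hcnt : ((Nat.card F : ℂ) ^ finrank F U - 1) * ∑ f ∈ S, rho φ f =
      ∑ v ∈ (Finset.univ : Finset U).erase 0, ∑ f ∈ S, rho φ f := by
    rw [Finset.sum_const, Finset.card_erase_of_mem (Finset.mem_univ _), Finset.card_univ, nsmul_eq_mul,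
      Nat.cast_sub Fintype.card_pos, Nat.cast_one, ← Nat.card_eq_fintype_card,
      Module.natCard_eq_pow_finrank (K := F) (V := U), Nat.cast_pow]
  rw [hcnt]
  have hsplit : ∀ v ∈ (Finset.univ : Finset U).erase 0,
      ∑ f ∈ S, rho φ f = ∑ f ∈ S.filter (fun f => cspan f v = ⊤), Rval φ h := by
    intro v hv
    rw [← Finset.sum_filter_add_sum_filter_not S (fun f => cspan f v = ⊤)]
    have hz : ∑ f ∈ S.filter (fun f => ¬ cspan f v = ⊤), rho φ f = 0 := by
      have := finite_submodule (F := F) U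
      have := Fintype.ofFinite (Submodule F U)
      rw [← Finset.sum_fiberwise _ (fun f => cspan f v)]
      refine Finset.sum_eq_zero fun X _ => ?_
      rw [Finset.filter_filter]
      set T := S.filter (fun f => ¬cspan f v = ⊤ ∧ cspan f v = X) with hT
      rcases T.eq_empty_or_nonempty with he | ⟨f0, hf0⟩
      · rw [he, Finset.sum_empty]
      obtain ⟨-, hne, hX0⟩ := Finset.mem_filter.1 hf0
      have hXb : X ≠ ⊥ := fun e => (Finset.ne_of_mem_erase hv) (by
        have := self_mem_cspan f0 v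
        rwa [hX0, e, Submodule.mem_bot] at this)
      have hXt : X ≠ ⊤ := hX0 ▸ hne
      have hvX : v ∈ X := hX0 ▸ self_mem_cspan f0 v
      have := finite_hom X
      have := Fintype.ofFinite ((U ⧸ X) →ₗ[F] X)
      have hinv : ∀ f ∈ T, ∀ c, f + tr X c ∈ T := by
        intro f hf c
        obtain ⟨hfS, -, hfX⟩ := Finset.mem_filter.1 hf
        have hst : ∀ x ∈ X, f x ∈ X := hfX ▸ map_mem_cspan
        have e : cspan (f + tr X c) v = cspan f v := by
          ext w
          simp only [mem_cspan, aeval_add_tr hst c _ hvX]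
        refine Finset.mem_filter.2 ⟨Finset.mem_filter.2 ⟨Finset.mem_univ _, ?_⟩, ?_, ?_⟩
        · rw [charpoly_add_tr hst c]; exact (Finset.mem_filter.1 hfS).2
        · rw [e, hfX]; exact hXt
        · rw [e, hfX]
      have h2 : ∀ c, ∑ f ∈ T, rho φ (f + tr X c) = ∑ f ∈ T, rho φ f := fun c => by
        refine Finset.sum_nbij' (fun f => f + tr X c) (fun f => f + tr X (-c)) (fun f hf => hinv f hf c)
          (fun f hf => hinv f hf (-c)) (fun f _ => ?_) (fun f _ => ?_) fun f _ => rfl
        · show f + tr X c + tr X (-c) = f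
          rw [add_assoc, ← tr_add, add_neg_cancel]
          simp [tr]
        · show f + tr X (-c) + tr X c = f
          rw [add_assoc, ← tr_add, neg_add_cancel]
          simp [tr]
      have h3 : (Fintype.card ((U ⧸ X) →ₗ[F] X) : ℂ) * ∑ f ∈ T, rho φ f = 0 := by
        rw [← nsmul_eq_mul, ← Finset.card_univ, ← Finset.sum_const, ← Finset.sum_congr rfl fun c _ => h2 c,
          Finset.sum_comm]
        refine Finset.sum_eq_zero fun f hf => sum_rho_translate _ rfl f X ?_ hXb hXt
        exact (Finset.mem_filter.1 hf).2.2 ▸ map_mem_cspan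
      exact (mul_eq_zero.1 h3).resolve_left (Nat.cast_ne_zero.2 Fintype.card_ne_zero)
    rw [hz, add_zero]
    refine Finset.sum_congr rfl fun f hf => ?_
    obtain ⟨hfS, hspan⟩ := Finset.mem_filter.1 hf
    have hc : f.charpoly = h := (Finset.mem_filter.1 hfS).2
    have hsim := sim_cyc_charpoly hspan
    rw [hc] at hsim
    rw [rho_congr φ hsim]
    exact rho_Cyc _ hm rfl
  rw [Finset.sum_congr rfl hsplit, Finset.sum_sigma', Finset.sum_const, nsmul_eq_mul]
  congr 2
  -- cyclic pairs are parametrized by isomorphisms with the model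
  obtain ⟨e0⟩ : Nonempty (AdjoinRoot h ≃ₗ[F] U) :=
    FiniteDimensional.nonempty_linearEquiv_of_finrank_eq (by rw [finrank_adjoinRoot hm, hd])
  have : Finite (AdjoinRoot h) := Module.finite_of_finite F
  have : Finite (AdjoinRoot h →ₗ[F] U) := Module.finite_of_finite F
  have : Finite (AdjoinRoot h ≃ₗ[F] U) :=
    Finite.of_injective (fun e => (e : AdjoinRoot h →ₗ[F] U)) LinearEquiv.toLinearMap_injective
  have := Fintype.ofFinite (AdjoinRoot h ≃ₗ[F] U)
  rw [← Nat.card_congr (α := AdjoinRoot h ≃ₗ[F] U)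
    ⟨fun e => e0.symm.trans e, fun e => e0.trans e, fun e => by ext; simp, fun e => by ext; simp⟩,
    Nat.card_eq_fintype_card, ← Finset.card_univ]
  symm
  refine Finset.card_bij (fun e _ => ⟨e 1, e.conj (Cyc h)⟩) (fun e _ => ?_) (fun e _ e' _ hee => ?_)
    fun t ht => ?_
  · have he : ∀ x, e (Cyc h x) = e.conj (Cyc h) (e x) := fun x => by simp [LinearEquiv.conj_apply]
    refine Finset.mem_sigma.2 ⟨Finset.mem_erase.2 ⟨?_, Finset.mem_univ _⟩,
      Finset.mem_filter.2 ⟨Finset.mem_filter.2 ⟨Finset.mem_univ _, ?_⟩, ?_⟩⟩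
    · intro h0
      have hnt : Nontrivial (AdjoinRoot h) :=
        Module.nontrivial_of_finrank_pos (R := F) (by rw [finrank_adjoinRoot hm]; omega)
      exact one_ne_zero (e.map_eq_zero_iff.1 h0)
    · rw [LinearEquiv.charpoly_conj, charpoly_Cyc hm]
    · rw [eq_top_iff]
      intro w _
      obtain ⟨G, hG⟩ := mem_cspan.1 ((cspan_Cyc h).symm ▸ Submodule.mem_top : e.symm w ∈ cspan (Cyc h) 1)
      exact mem_cspan.2 ⟨G, by rw [← Sim.aeval_apply e he, hG, e.apply_symm_apply]⟩
  · obtain ⟨h1, h2⟩ := Sigma.mk.inj_iff.1 hee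
    have h2' : e.conj (Cyc h) = e'.conj (Cyc h) := eq_of_heq h2
    have he : ∀ (e : AdjoinRoot h ≃ₗ[F] U) x, e (Cyc h x) = e.conj (Cyc h) (e x) := fun e x => by
      simp [LinearEquiv.conj_apply]
    ext x
    induction x using AdjoinRoot.induction_on with
    | _ G => rw [← aeval_Cyc_one, Sim.aeval_apply e (he e), Sim.aeval_apply e' (he e'), h1, h2']
  · obtain ⟨v, f⟩ := t
    obtain ⟨-, hf⟩ := Finset.mem_sigma.1 ht
    obtain ⟨hfS, hspan⟩ := Finset.mem_filter.1 hf
    have hc : f.charpoly = h := (Finset.mem_filter.1 hfS).2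
    have hv : aeval f h v = 0 := by rw [← hc, f.aeval_self_charpoly]; rfl
    have hsurj : Function.Surjective (evMap f v hm) := fun w => by
      obtain ⟨G, hG⟩ := mem_cspan.1 (hspan ▸ Submodule.mem_top : w ∈ cspan f v)
      exact ⟨AdjoinRoot.mk h G, by rw [evMap_mk hm hv, hG]⟩
    have hinj : Function.Injective (evMap f v hm) :=
      (LinearMap.injective_iff_surjective_of_finrank_eq_finrank (by rw [finrank_adjoinRoot hm, hd])).2 hsurj
    let e := LinearEquiv.ofBijective _ ⟨hinj, hsurj⟩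
    refine ⟨e, Finset.mem_univ _, Sigma.ext ?_ (heq_of_eq ?_)⟩
    · show evMap f v hm 1 = v
      rw [← map_one (AdjoinRoot.mk h), evMap_mk hm hv]
      simp
    · show e.conj (Cyc h) = f
      ext w
      obtain ⟨x, rfl⟩ := e.surjective w
      rw [LinearEquiv.conj_apply, LinearMap.comp_apply, LinearMap.comp_apply, LinearEquiv.coe_coe,
        LinearEquiv.coe_coe, e.symm_apply_apply]
      exact evMap_mul_root hm hv x

/-- `rho` only sees the first summand of the recursion of `rho'`. -/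
theorem sum_rho_mul_conj [Fintype (Module.End F U)] [Fintype (Submodule F U)] (φ φ' : Kl F → ℂ)
    (S : Finset (Module.End F U))
    (hS : ∀ f g : Module.End F U, f.charpoly = g.charpoly → f ∈ S → g ∈ S) :
    ∑ f ∈ S, rho φ f * conj (rho φ' f) = ∑ f ∈ S, rho φ f * conj (Cval φ' f) := by
  classical
  have key : ∀ W : Submodule F U, W ≠ ⊤ → ∑ f ∈ S, rho φ f * conj (rhoOn φ' f W) = 0 := by
    intro W hW
    by_cases hWb : W = ⊥
    · subst hWb
      exact Finset.sum_eq_zero fun f _ => by rw [rhoOn_bot, map_zero, mul_zero]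
    rw [← Finset.sum_filter_of_ne (p := fun f => ∀ x ∈ W, f x ∈ W) (fun f _ hf => by
      by_contra hn
      refine hf ?_
      rw [rhoOn, dif_neg hn, map_zero, mul_zero])]
    set T := S.filter (fun f => ∀ x ∈ W, f x ∈ W) with hT
    have := finite_hom W
    have := Fintype.ofFinite ((U ⧸ W) →ₗ[F] W)
    have hinv : ∀ f ∈ T, ∀ c, f + tr W c ∈ T := fun f hf c => by
      obtain ⟨hfS, hst⟩ := Finset.mem_filter.1 hf
      exact Finset.mem_filter.2 ⟨hS f _ (charpoly_add_tr hst c).symm hfS, invt_add_tr hst c⟩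
    have hr : ∀ f ∈ T, ∀ c, rhoOn φ' (f + tr W c) W = rhoOn φ' f W := fun f hf c => by
      have hst := (Finset.mem_filter.1 hf).2
      rw [rhoOn, rhoOn, dif_pos (invt_add_tr hst c), dif_pos hst, restrict_add_tr hst c]
    have h2 : ∀ c, ∑ f ∈ T, rho φ (f + tr W c) * conj (rhoOn φ' f W) =
        ∑ f ∈ T, rho φ f * conj (rhoOn φ' f W) := fun c => by
      refine Finset.sum_nbij' (fun f => f + tr W c) (fun f => f + tr W (-c)) (fun f hf => hinv f hf c)
        (fun f hf => hinv f hf (-c)) (fun f _ => ?_) (fun f _ => ?_) fun f hf => by rw [hr f hf c]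
      · show f + tr W c + tr W (-c) = f
        rw [add_assoc, ← tr_add, add_neg_cancel]
        simp [tr]
      · show f + tr W (-c) + tr W c = f
        rw [add_assoc, ← tr_add, neg_add_cancel]
        simp [tr]
    have h3 : (Fintype.card ((U ⧸ W) →ₗ[F] W) : ℂ) * ∑ f ∈ T, rho φ f * conj (rhoOn φ' f W) = 0 := by
      rw [← nsmul_eq_mul, ← Finset.card_univ, ← Finset.sum_const, ← Finset.sum_congr rfl fun c _ => h2 c,
        Finset.sum_comm]
      refine Finset.sum_eq_zero fun f hf => ?_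
      rw [← Finset.sum_mul, sum_rho_translate _ rfl f W (Finset.mem_filter.1 hf).2 hWb hW, zero_mul]
    exact (mul_eq_zero.1 h3).resolve_left (Nat.cast_ne_zero.2 Fintype.card_ne_zero)
  rw [← sub_eq_zero, ← Finset.sum_sub_distrib]
  have h4 : ∀ f, rho φ f * conj (rho φ' f) - rho φ f * conj (Cval φ' f) =
      -∑ W ∈ (Finset.univ : Finset (Submodule F U)).erase ⊤, rho φ f * conj (rhoOn φ' f W) := by
    intro f
    have h5 := Cval_eq_sum φ' f
    rw [← Finset.add_sum_erase _ _ (Finset.mem_univ (⊤ : Submodule F U)), rhoOn_top] at h5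
    rw [h5, map_add, map_sum, ← Finset.mul_sum]
    ring
  rw [Finset.sum_congr rfl fun f _ => h4 f, Finset.sum_neg_distrib, Finset.sum_comm,
    Finset.sum_eq_zero fun W hW => key W (Finset.ne_of_mem_erase hW), neg_zero]

end count

end Cfsg.Agent.GLCusp
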