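/-
The sum of `Rval φ h * conj (cv φ' h)` over monic polynomials of degree `n` as a sum over the roots of unity.
-/
import Cfsg.Agent.Lib.GLCusp.Count
import Mathlib.FieldTheory.Finite.Extension

set_option autoImplicit false

namespace Cfsg.Agent.GLCusp

open Polynomial Module
open scoped ComplexConjugate

universe u

variable {F : Type u} [Field F] [Fintype F]

theorem exists_of_pow_card_eq {c : Kl F} (hc : c ^ Fintype.card F = c) :
    ∃ a : F, algebraMap F (Kl F) a = c := by
  classical
  have h0 : (X ^ Fintype.card F - X : (Kl F)[X]) ≠ 0 :=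
    FiniteField.X_pow_card_sub_X_ne_zero _ Fintype.one_lt_card
  have hsub : Finset.univ.image (algebraMap F (Kl F)) ⊆
      (X ^ Fintype.card F - X : (Kl F)[X]).roots.toFinset := by
    intro y hy
    obtain ⟨a, -, rfl⟩ := Finset.mem_image.1 hy
    rw [Multiset.mem_toFinset, mem_roots h0, IsRoot, eval_sub, eval_pow, eval_X, ← map_pow,
      FiniteField.pow_card, sub_self]
  have heq := Finset.eq_of_subset_of_card_le hsub (by
    rw [Finset.card_image_of_injective _ (algebraMap F (Kl F)).injective, Finset.card_univ]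
    refine (Multiset.toFinset_card_le _).trans ((card_roots' _).trans ?_)
    rw [FiniteField.X_pow_card_sub_X_natDegree_eq _ Fintype.one_lt_card])
  have : c ∈ (X ^ Fintype.card F - X : (Kl F)[X]).roots.toFinset := by
    rw [Multiset.mem_toFinset, mem_roots h0, IsRoot, eval_sub, eval_pow, eval_X, hc, sub_self]
  rw [← heq] at this
  obtain ⟨a, -, rfl⟩ := Finset.mem_image.1 this
  exact ⟨a, rfl⟩

theorem aeval_pow_card_pow (G : F[X]) (y : Kl F) (i : ℕ) :
    aeval (y ^ Fintype.card F ^ i) G = aeval y G ^ Fintype.card F ^ i := by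
  induction i with
  | zero => simp
  | succ i ih =>
    have h := aeval_algHom_apply (FiniteField.frobeniusAlgHom F (Kl F)) (y ^ Fintype.card F ^ i) G
    simp only [FiniteField.coe_frobeniusAlgHom] at h
    rw [pow_succ, pow_mul, h, ih, ← pow_mul]

/-- The polynomial of an orbit. -/
theorem exists_orbit_poly {n : ℕ} (hn : 0 < n) {x : Kl F} (hx : x ^ Fintype.card F ^ n = x) (hx0 : x ≠ 0) :
    ∃ (h : F[X]) (j : ℕ), 0 < j ∧ h.Monic ∧ h.natDegree = n ∧ h.coeff 0 ≠ 0 ∧ h = minpoly F x ^ j ∧
      ∀ φ : Kl F → ℂ, cv φ h = ∑ i ∈ Finset.range n, φ (x ^ Fintype.card F ^ i) := by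
  classical
  let G : (Kl F)[X] := ∏ i ∈ Finset.range n, (X - Polynomial.C (x ^ Fintype.card F ^ i))
  let fr : Kl F →+* Kl F := (FiniteField.frobeniusAlgHom F (Kl F)).toRingHom
  have hfr : ∀ y, fr y = y ^ Fintype.card F := fun y => rfl
  have hGfr : G.map fr = G := by
    simp only [G, Polynomial.map_prod, Polynomial.map_sub, map_X, map_C, hfr, ← pow_mul, ← pow_succ]
    refine mul_left_cancel₀ (X_sub_C_ne_zero x) ?_
    have h1 := Finset.prod_range_succ' (fun i => (X - Polynomial.C (x ^ Fintype.card F ^ i) : (Kl F)[X])) n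
    rw [Finset.prod_range_succ, hx, pow_zero, pow_one] at h1
    rw [mul_comm, ← h1, mul_comm]
  have hlift : G ∈ lifts (algebraMap F (Kl F)) := by
    rw [lifts_iff_coeff_lifts]
    intro i
    refine exists_of_pow_card_eq ?_
    have := congrArg (fun P => coeff P i) hGfr
    simpa [coeff_map, hfr] using this
  have hGm : G.Monic := monic_prod_of_monic _ _ fun i _ => monic_X_sub_C _
  have hGd : G.natDegree = n := by
    rw [natDegree_prod_of_monic _ _ fun i _ => monic_X_sub_C _,
      Finset.sum_congr rfl fun i _ => natDegree_X_sub_C _, Finset.sum_const, Finset.card_range, smul_eq_mul,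
      mul_one]
  obtain ⟨h, hmap, hdeg, hm⟩ := lifts_and_natDegree_eq_and_monic hlift hGm
  have hroots : G.roots = (Finset.range n).val.map (fun i => x ^ Fintype.card F ^ i) := by
    simp only [G]
    rw [Finset.prod_eq_multiset_prod, ← roots_multiset_prod_X_sub_C
      ((Finset.range n).val.map fun i => x ^ Fintype.card F ^ i), Multiset.map_map]
    rfl
  have hint : IsIntegral F x := Algebra.IsIntegral.isIntegral x
  have hQ : ∀ Q ∈ UniqueFactorizationMonoid.normalizedFactors h, Q = minpoly F x := by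
    intro Q hQ
    obtain ⟨hQi, hQm, hQd⟩ := (Polynomial.mem_normalizedFactors_iff hm.ne_zero).1 hQ
    obtain ⟨y, hy⟩ := IsAlgClosed.exists_aeval_eq_zero (Kl F) Q
      (fun h0 => hQi.natDegree_pos.ne' (natDegree_eq_of_degree_eq_some h0))
    have hyG : y ∈ G.roots := by
      rw [mem_roots hGm.ne_zero, IsRoot, ← hmap, eval_map_algebraMap]
      exact aeval_eq_zero_of_dvd_aeval_eq_zero hQd hy
    rw [hroots, Multiset.mem_map] at hyG
    obtain ⟨i, -, rfl⟩ := hyG
    rw [minpoly.eq_of_irreducible_of_monic hQi hy hQm]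
    refine (minpoly.eq_of_irreducible_of_monic (minpoly.irreducible hint) ?_ (minpoly.monic hint)).symm
    rw [aeval_pow_card_pow, minpoly.aeval, zero_pow (pow_ne_zero _ Fintype.card_ne_zero)]
  have hprod : (UniqueFactorizationMonoid.normalizedFactors h).prod = h := by
    have := leadingCoeff_mul_prod_normalizedFactors h
    rwa [hm.leadingCoeff, map_one, one_mul] at this
  rw [Multiset.eq_replicate_card.2 hQ, Multiset.prod_replicate] at hprod
  refine ⟨h, _, ?_, hm, hdeg.trans hGd, ?_, hprod.symm, fun φ => ?_⟩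
  · by_contra h0
    rw [Nat.eq_zero_of_not_pos h0, pow_zero] at hprod
    rw [← hprod, natDegree_one, hGd] at hdeg
    omega
  · intro h0
    have h1 : G.eval 0 = 0 := by
      rw [← coeff_zero_eq_eval_zero, ← hmap, coeff_map, h0, map_zero]
    simp only [G, eval_prod, eval_sub, eval_X, eval_C, zero_sub, Finset.prod_eq_zero_iff, neg_eq_zero] at h1
    obtain ⟨i, -, hi⟩ := h1
    exact hx0 (pow_eq_zero_iff (pow_ne_zero _ Fintype.card_ne_zero) |>.1 hi)
  · rw [cv, hmap, hroots, Multiset.map_map]
    rfl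

theorem root_pow_card_pow {P : F[X]} (hPi : Irreducible P) {n : ℕ} (hd : P.natDegree ∣ n) {y : Kl F}
    (hy : aeval y P = 0) : y ^ Fintype.card F ^ n = y := by
  have h := (Irreducible.natDegree_dvd_iff_dvd_X_pow_card_pow_sub_X hPi).1 hd
  obtain ⟨c, hc⟩ := h
  have h2 := congrArg (aeval y) hc
  rw [map_mul, hy, zero_mul, map_sub, map_pow, aeval_X, sub_eq_zero, Nat.card_eq_fintype_card] at h2
  exact h2

/-- The orbit form of the norm sum. -/
theorem sum_Rval_mul_conj {n : ℕ} (hn : 0 < n) (φ φ' : Kl F → ℂ) (Hs : Finset F[X])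
    (hH : ∀ h, h ∈ Hs ↔ h.Monic ∧ h.natDegree = n ∧ h.coeff 0 ≠ 0)
    (E : Finset (Kl F)) (hE : ∀ x, x ∈ E ↔ x ^ (Fintype.card F ^ n - 1) = 1) :
    (n : ℂ) * ∑ h ∈ Hs, Rval φ h * conj (cv φ' h) =
      ∑ x ∈ E, (∑ i ∈ Finset.range n, φ (x ^ Fintype.card F ^ i)) *
        conj (∑ i ∈ Finset.range n, φ' (x ^ Fintype.card F ^ i)) := by
  classical
  have hq : 1 < Fintype.card F ^ n := Nat.one_lt_pow hn.ne' Fintype.one_lt_card
  have hEx : ∀ x ∈ E, x ^ Fintype.card F ^ n = x ∧ x ≠ 0 := fun x hx => by
    have h1 := (hE x).1 hx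
    refine ⟨?_, fun e => ?_⟩
    · conv_lhs => rw [show Fintype.card F ^ n = (Fintype.card F ^ n - 1) + 1 by omega, pow_succ, h1, one_mul]
    · rw [e, zero_pow (by omega)] at h1
      exact zero_ne_one h1
  choose! hp jp hjp hmp hdp hcp hpw hcv using fun x (hx : x ∈ E) => exists_orbit_poly hn (hEx x hx).1 (hEx x hx).2
  rw [Finset.sum_congr rfl (s₁ := E) fun x hx => by rw [← hcv x hx φ, ← hcv x hx φ'],
    ← Finset.sum_fiberwise_of_maps_to (t := Hs) (g := hp) fun x hx => (hH _).2 ⟨hmp x hx, hdp x hx, hcp x hx⟩,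
    Finset.mul_sum]
  refine Finset.sum_congr rfl fun h hh => ?_
  obtain ⟨hm, hd, hc0⟩ := (hH h).1 hh
  rw [Finset.sum_congr rfl (g := fun _ => cv φ h * conj (cv φ' h)) fun x hx => by
    rw [(Finset.mem_filter.1 hx).2], Finset.sum_const, nsmul_eq_mul, ← mul_assoc, ← mul_assoc]
  congr 1
  by_cases hpp : ∃ P : F[X], P.Monic ∧ Irreducible P ∧ ∃ j, 0 < j ∧ h = P ^ j
  · obtain ⟨P, hPm, hPi, j, hj, rfl⟩ := hpp
    rw [Rval_pow φ hPm hPi hj, cv_pow φ hPm.ne_zero]
    have hdn : P.natDegree ∣ n := ⟨j, by rw [← hd, natDegree_pow, mul_comm]⟩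
    have hfib : E.filter (fun x => hp x = P ^ j) = (P.map (algebraMap F (Kl F))).roots.toFinset := by
      ext y
      rw [Finset.mem_filter, Multiset.mem_toFinset, mem_roots (map_ne_zero hPm.ne_zero), IsRoot,
        eval_map_algebraMap]
      have hint : IsIntegral F y := Algebra.IsIntegral.isIntegral y
      constructor
      · rintro ⟨hy, e⟩
        rw [hpw y hy] at e
        rw [← (pow_inj_irreducible (minpoly.monic hint) (minpoly.irreducible hint) hPm hPi (hjp y hy) e).1]
        exact minpoly.aeval F y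
      · intro hy
        have hy0 : y ≠ 0 := by
          intro e
          apply hc0
          rw [coeff_zero_eq_eval_zero, eval_pow]
          rw [e, aeval_def, ← map_zero (algebraMap F (Kl F)), eval₂_at_apply] at hy
          rw [(algebraMap F (Kl F)).injective hy, zero_pow hj.ne']
        have hyE : y ∈ E := by
          rw [hE]
          have := root_pow_card_pow hPi hdn hy
          refine mul_right_cancel₀ hy0 ?_
          rw [← pow_succ, show Fintype.card F ^ n - 1 + 1 = Fintype.card F ^ n by omega, this, one_mul]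
        refine ⟨hyE, ?_⟩
        have hmin := minpoly.eq_of_irreducible_of_monic hPi hy hPm
        rw [hpw y hyE, ← hmin]
        congr 1
        have h2 := congrArg natDegree (hpw y hyE)
        rw [hdp y hyE, natDegree_pow, ← hmin, ← hd, natDegree_pow] at h2
        exact (Nat.eq_of_mul_eq_mul_right hPi.natDegree_pos h2).symm
    have hcard : (E.filter fun x => hp x = P ^ j).card = P.natDegree := by
      rw [hfib, ← card_rootSet_eq_natDegree (K := Kl F) (PerfectField.separable_of_irreducible hPi)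
        (IsAlgClosed.splits _), Fintype.card_eq_nat_card, Nat.card_coe_set_eq, rootSet_def, Set.ncard_coe_finset, aroots_def]
    rw [hcard, ← hd, natDegree_pow]
    push_cast
    ring
  · rw [Rval_eq_zero φ hpp, mul_zero, Finset.filter_false_of_mem, Finset.card_empty, Nat.cast_zero, zero_mul]
    intro x hx e
    exact hpp ⟨minpoly F x, minpoly.monic (Algebra.IsIntegral.isIntegral x),
      minpoly.irreducible (Algebra.IsIntegral.isIntegral x), jp x, hjp x hx, by rw [← e]; exact hpw x hx⟩

end Cfsg.Agent.GLCusp
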