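/-
Cuspidal irreducible characters of general linear groups.
* `exists_isLift`: a lift of the roots of unity
* `classInner_rho`: the inner products
* `exists_cuspidal`: the family of cuspidal characters
-/
import Cfsg.Agent.Lib.GLCusp.Orbit
import Mathlib.RingTheory.RootsOfUnity.Complex
import Mathlib.LinearAlgebra.Matrix.GeneralLinearGroup.Defs

set_option autoImplicit false

namespace Cfsg.Agent.GLCusp

open Polynomial Module Cfsg
open scoped ComplexConjugate MatrixGroups

universe u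

variable {F : Type u} [Field F]

theorem exists_isLift {M : ℕ} (hM : M ≠ 0) : ∃ φ : Kl F → ℂ, IsLift M φ := by
  classical
  have : NeZero M := ⟨hM⟩
  have : NeZero (Nat.card (rootsOfUnity M (Kl F))) := ⟨Nat.card_pos.ne'⟩
  have hcard : Nat.card (rootsOfUnity M (Kl F)) =
      Nat.card (rootsOfUnity (Nat.card (rootsOfUnity M (Kl F))) ℂ) := by
    rw [Complex.card_rootsOfUnity]
  let e := mulEquivOfCyclicCardEq hcard
  let φ : Kl F → ℂ := fun x => if h : x ^ M = 1 then
    (((e (rootsOfUnity.mkOfPowEq x h) : rootsOfUnity _ ℂ) : ℂˣ) : ℂ) else 0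
  refine ⟨φ, ⟨?_, fun x y hx hy => ?_, fun x hx h => ?_⟩⟩
  · have h1 : (1 : Kl F) ^ M = 1 := one_pow M
    simp only [φ, dif_pos h1]
    rw [show rootsOfUnity.mkOfPowEq (1 : Kl F) h1 = 1 from Subtype.ext (Units.ext rfl), map_one]
    rfl
  · have hxy : (x * y) ^ M = 1 := by rw [mul_pow, hx, hy, one_mul]
    simp only [φ, dif_pos hx, dif_pos hy, dif_pos hxy]
    rw [show rootsOfUnity.mkOfPowEq (x * y) hxy = rootsOfUnity.mkOfPowEq x hx * rootsOfUnity.mkOfPowEq y hy
      from Subtype.ext (Units.ext rfl), map_mul]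
    rfl
  · simp only [φ, dif_pos hx] at h
    have h2 : e (rootsOfUnity.mkOfPowEq x hx) = 1 := Subtype.ext (Units.ext h)
    rw [EmbeddingLike.map_eq_one_iff] at h2
    exact congrArg (fun z : rootsOfUnity M (Kl F) => ((z : (Kl F)ˣ) : Kl F)) h2

theorem IsLift.pow {M : ℕ} {φ : Kl F → ℂ} (hφ : IsLift M φ) {j : ℕ} (hj : Nat.Coprime j M) :
    IsLift M (fun x => φ x ^ j) := by
  refine ⟨by simp [hφ.map_one], fun x y hx hy => by simp only [hφ.map_mul x y hx hy, mul_pow],
    fun x hx h => hφ.inj x hx ?_⟩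
  have h2 : φ x ^ M = 1 := by rw [← hφ.map_pow hx, hx, hφ.map_one]
  have := pow_gcd_eq_one.2 ⟨(h : φ x ^ j = 1), h2⟩
  rwa [hj, pow_one] at this

variable [Fintype F]

/-- The action of the general linear group on column vectors. -/
noncomputable def natHom (n : ℕ) : GL (Fin n) F →* Module.End F (Fin n → F) :=
  (Matrix.toLinAlgEquiv' (R := F) (n := Fin n)).toRingEquiv.toMonoidHom.comp (Units.coeHom _)

theorem natHom_injective (n : ℕ) : Function.Injective (natHom (F := F) n) := fun a b h =>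
  Units.ext ((Matrix.toLinAlgEquiv' (R := F) (n := Fin n)).injective h)

theorem charpoly_coeff_zero_ne {n : ℕ} (f : Module.End F (Fin n → F)) :
    f.charpoly.coeff 0 ≠ 0 ↔ ∃ g : GL (Fin n) F, natHom n g = f := by
  have hdet : f.charpoly.coeff 0 ≠ 0 ↔ IsUnit f := by
    rw [LinearMap.isUnit_iff_isUnit_det, isUnit_iff_ne_zero, LinearMap.det_eq_sign_charpoly_coeff]
    simp
  rw [hdet]
  constructor
  · intro h
    have h2 : IsUnit ((Matrix.toLinAlgEquiv' (R := F) (n := Fin n)).symm f) := h.map _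
    exact ⟨h2.unit, (Matrix.toLinAlgEquiv' (R := F) (n := Fin n)).apply_symm_apply f⟩
  · rintro ⟨g, rfl⟩
    exact g.isUnit.map (Matrix.toLinAlgEquiv' (R := F) (n := Fin n))

theorem classInner_rho {n : ℕ} (hn : 0 < n) [Fintype (GL (Fin n) F)] (φ φ' : Kl F → ℂ) (E : Finset (Kl F))
    (hE : ∀ x, x ∈ E ↔ x ^ (Fintype.card F ^ n - 1) = 1) :
    classInner (fun g : GL (Fin n) F => rho φ (natHom n g)) (fun g => rho φ' (natHom n g)) *
        ((n : ℂ) * ((Fintype.card F : ℂ) ^ n - 1)) =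
      ∑ x ∈ E, (∑ i ∈ Finset.range n, φ (x ^ Fintype.card F ^ i)) *
        conj (∑ i ∈ Finset.range n, φ' (x ^ Fintype.card F ^ i)) := by
  classical
  have := finite_end (F := F) (Fin n → F)
  have := Fintype.ofFinite (Module.End F (Fin n → F))
  have := finite_submodule (F := F) (Fin n → F)
  have := Fintype.ofFinite (Submodule F (Fin n → F))
  have hdim : finrank F (Fin n → F) = n := Module.finrank_fin_fun F
  set S := Finset.univ.filter (fun f : Module.End F (Fin n → F) => f.charpoly.coeff 0 ≠ 0) with hS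
  have hsum : ∑ g : GL (Fin n) F, rho φ (natHom n g) * conj (rho φ' (natHom n g)) =
      ∑ f ∈ S, rho φ f * conj (rho φ' f) := by
    refine Finset.sum_bij (fun g _ => natHom n g) (fun g _ => ?_) (fun a _ b _ h => natHom_injective n h)
      (fun f hf => ?_) fun g _ => rfl
    · exact Finset.mem_filter.2 ⟨Finset.mem_univ _, (charpoly_coeff_zero_ne _).2 ⟨g, rfl⟩⟩
    · obtain ⟨g, hg⟩ := (charpoly_coeff_zero_ne f).1 (Finset.mem_filter.1 hf).2
      exact ⟨g, Finset.mem_univ _, hg⟩
  rw [sum_rho_mul_conj φ φ' S (fun f g h hf => Finset.mem_filter.2 ⟨Finset.mem_univ _, by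
    rw [← h]; exact (Finset.mem_filter.1 hf).2⟩)] at hsum
  set Hs := S.image (fun f => f.charpoly) with hHs
  have hH : ∀ h, h ∈ Hs ↔ h.Monic ∧ h.natDegree = n ∧ h.coeff 0 ≠ 0 := by
    intro h
    constructor
    · intro hh
      obtain ⟨f, hf, rfl⟩ := Finset.mem_image.1 hh
      exact ⟨f.charpoly_monic, by rw [LinearMap.charpoly_natDegree, hdim], (Finset.mem_filter.1 hf).2⟩
    · rintro ⟨hm, hd, h0⟩
      haveI := hm.finite_adjoinRoot
      obtain ⟨e⟩ : Nonempty (AdjoinRoot h ≃ₗ[F] (Fin n → F)) :=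
        FiniteDimensional.nonempty_linearEquiv_of_finrank_eq (by rw [SLComm.finrank_adjoinRoot hm, hd, hdim])
      have hc : (e.conj (SLComm.Cyc h)).charpoly = h := by
        rw [LinearEquiv.charpoly_conj, SLComm.charpoly_Cyc hm]
      exact Finset.mem_image.2 ⟨_, Finset.mem_filter.2 ⟨Finset.mem_univ _, by rw [hc]; exact h0⟩, hc⟩
  have hcardGL : Nat.card ((Fin n → F) ≃ₗ[F] (Fin n → F)) = Nat.card (GL (Fin n) F) :=
    (Nat.card_congr (Matrix.GeneralLinearGroup.toLin.trans
      (LinearMap.GeneralLinearGroup.generalLinearEquiv F (Fin n → F))).toEquiv).symm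
  have hfib : ∀ h ∈ Hs, ((Fintype.card F : ℂ) ^ n - 1) *
      ∑ f ∈ S.filter (fun f => f.charpoly = h), rho φ f * conj (Cval φ' f) =
        (Nat.card (GL (Fin n) F) : ℂ) * (Rval φ h * conj (cv φ' h)) := by
    intro h hh
    obtain ⟨hm, hd, h0⟩ := (hH h).1 hh
    have hfil : S.filter (fun f => f.charpoly = h) = Finset.univ.filter (fun f => f.charpoly = h) := by
      ext f
      simp only [hS, Finset.mem_filter, Finset.mem_univ, true_and, and_iff_right_iff_imp]
      exact fun e => e ▸ h0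
    rw [hfil, Finset.sum_congr rfl (g := fun f => rho φ f * conj (cv φ' h)) (fun f hf => by
      rw [Cval, (Finset.mem_filter.1 hf).2]), ← Finset.sum_mul, ← mul_assoc, ← mul_assoc]
    congr 1
    have := sum_rho_charpoly (U := Fin n → F) (φ := φ) hm (hd.trans hdim.symm) (hdim.symm ▸ hn)
    rwa [hdim, hcardGL, Nat.card_eq_fintype_card (α := F)] at this
  rw [← sum_Rval_mul_conj hn φ φ' Hs hH E hE, classInner, hsum]
  have h2 : ((Fintype.card F : ℂ) ^ n - 1) * ∑ f ∈ S, rho φ f * conj (Cval φ' f) =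
      (Nat.card (GL (Fin n) F) : ℂ) * ∑ h ∈ Hs, Rval φ h * conj (cv φ' h) := by
    rw [← Finset.sum_fiberwise_of_maps_to (t := Hs) (g := fun f : Module.End F (Fin n → F) => f.charpoly)
      (fun f hf => Finset.mem_image_of_mem _ hf), Finset.mul_sum, Finset.mul_sum]
    exact Finset.sum_congr rfl hfib
  have hG : (Nat.card (GL (Fin n) F) : ℂ) ≠ 0 := Nat.cast_ne_zero.2 Nat.card_pos.ne'
  calc (Nat.card (GL (Fin n) F) : ℂ)⁻¹ * (∑ f ∈ S, rho φ f * conj (Cval φ' f)) *
        ((n : ℂ) * ((Fintype.card F : ℂ) ^ n - 1))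
      = (Nat.card (GL (Fin n) F) : ℂ)⁻¹ * n *
          (((Fintype.card F : ℂ) ^ n - 1) * ∑ f ∈ S, rho φ f * conj (Cval φ' f)) := by ring
    _ = (n : ℂ) * ∑ h ∈ Hs, Rval φ h * conj (cv φ' h) := by
      rw [h2, mul_comm _ (n : ℂ), mul_assoc, inv_mul_cancel_left₀ hG]

theorem coprime_card_pow (n : ℕ) (hn : 0 < n) :
    Nat.Coprime (Fintype.card F) (Fintype.card F ^ n - 1) := by
  refine Nat.coprime_of_dvd fun p hp h1 h2 => ?_
  have h3 : p ∣ Fintype.card F ^ n := h1.trans (dvd_pow_self _ hn.ne')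
  have h4 := Nat.dvd_sub h3 h2
  rw [Nat.sub_sub_self (Nat.one_le_pow _ _ Fintype.card_pos)] at h4
  exact hp.one_lt.ne' (Nat.dvd_one.1 h4)

/-- Sums of powers of a lift over the roots of unity of order `q ^ n - 1`. -/
theorem exists_roots_finset {n M : ℕ} (hn : 0 < n) {φ : Kl F → ℂ} (hφ : IsLift M φ)
    (hNM : Fintype.card F ^ n - 1 ∣ M) :
    ∃ E : Finset (Kl F), (∀ x, x ∈ E ↔ x ^ (Fintype.card F ^ n - 1) = 1) ∧ ∀ a b : ℕ,
      ∑ x ∈ E, φ x ^ a * conj (φ x ^ b) =
        if a ≡ b [MOD Fintype.card F ^ n - 1] then ((Fintype.card F ^ n - 1 : ℕ) : ℂ) else 0 := by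
  classical
  set N := Fintype.card F ^ n - 1 with hN
  have hN0 : 0 < N := by
    have := Nat.one_lt_pow hn.ne' (Fintype.one_lt_card (α := F))
    omega
  have : NeZero N := ⟨hN0.ne'⟩
  have hNK : (N : Kl F) ≠ 0 := by
    have h1 : ((Fintype.card F ^ n : ℕ) : Kl F) = 0 := by
      rw [Nat.cast_pow, ← map_natCast (algebraMap F (Kl F)), FiniteField.cast_card_eq_zero, map_zero,
        zero_pow hn.ne']
    intro h2
    rw [show Fintype.card F ^ n = N + 1 by omega, Nat.cast_add, h2, zero_add, Nat.cast_one] at h1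
    exact one_ne_zero h1
  have : NeZero (N : Kl F) := ⟨hNK⟩
  obtain ⟨ζ, hζ⟩ := HasEnoughRootsOfUnity.exists_primitiveRoot (Kl F) N
  have hζM : ζ ^ M = 1 := by
    obtain ⟨j, hj⟩ := hNM
    rw [hj, pow_mul, hζ.pow_eq_one, one_pow]
  have hw : IsPrimitiveRoot (φ ζ) N := by
    refine ⟨by rw [← hφ.map_pow hζM, hζ.pow_eq_one, hφ.map_one], fun l hl => ?_⟩
    rw [← hφ.map_pow hζM] at hl
    exact hζ.dvd_of_pow_eq_one l (hφ.inj _ (by rw [← pow_mul, mul_comm, pow_mul, hζM, one_pow]) hl)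
  refine ⟨(Finset.range N).image (fun i => ζ ^ i), fun x => ⟨fun hx => ?_, fun hx => ?_⟩, fun a b => ?_⟩
  · obtain ⟨i, -, rfl⟩ := Finset.mem_image.1 hx
    rw [← pow_mul, mul_comm, pow_mul, hζ.pow_eq_one, one_pow]
  · obtain ⟨i, hi, rfl⟩ := hζ.eq_pow_of_pow_eq_one hx
    exact Finset.mem_image.2 ⟨i, Finset.mem_range.2 hi, rfl⟩
  rw [Finset.sum_image fun i hi j hj h => hζ.pow_inj (Finset.mem_range.1 hi) (Finset.mem_range.1 hj) h]
  set w := φ ζ with hwdef
  have hw0 : w ≠ 0 := hw.ne_zero hN0.ne'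
  have hconj : conj w = w⁻¹ := (Complex.inv_eq_conj (hw.norm'_eq_one hN0.ne')).symm
  set z := w ^ a * (w ^ b)⁻¹ with hz
  have hterm : ∀ i ∈ Finset.range N, φ (ζ ^ i) ^ a * conj (φ (ζ ^ i) ^ b) = z ^ i := fun i _ => by
    rw [hφ.map_pow hζM, ← hwdef, map_pow, map_pow, hconj, inv_pow, inv_pow, hz, mul_pow, inv_pow,
      ← pow_mul, ← pow_mul, ← pow_mul, ← pow_mul, mul_comm a i, mul_comm b i]
  rw [Finset.sum_congr rfl hterm]
  have hz1 : z = 1 ↔ a ≡ b [MOD N] := by
    rw [hz, mul_inv_eq_one₀ (pow_ne_zero _ hw0)]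
    have h1 := pow_eq_pow_iff_modEq (x := Units.mk0 w hw0) (n := a) (m := b)
    rw [← orderOf_units, Units.val_mk0, ← hw.eq_orderOf] at h1
    simpa [Units.ext_iff] using h1
  split_ifs with h
  · rw [hz1.2 h]; simp
  · have hzN : z ^ N = 1 := by
      rw [hz, mul_pow, inv_pow, ← pow_mul, ← pow_mul, mul_comm a, mul_comm b, pow_mul, pow_mul, hw.pow_eq_one,
        one_pow, one_pow, inv_one, mul_one]
    have h2 := geom_sum_mul z N
    rw [hzN, sub_self] at h2
    exact (mul_eq_zero.1 h2).resolve_right (sub_ne_zero.2 fun e => h (hz1.1 e))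

variable (F) in
/-- The subgroup generated by `q` modulo `q ^ n - 1`. -/
noncomputable def qUnit {n : ℕ} (hn : 0 < n) : (ZMod (Fintype.card F ^ n - 1))ˣ :=
  ZMod.unitOfCoprime (Fintype.card F) (coprime_card_pow n hn)

theorem qpow_modEq {n : ℕ} (hn : 2 ≤ n) {i j : ℕ} (hi : i < n) (hj : j < n)
    (h : Fintype.card F ^ i ≡ Fintype.card F ^ j [MOD Fintype.card F ^ n - 1]) : i = j := by
  have hq := Fintype.one_lt_card (α := F)
  have hb : ∀ k < n, Fintype.card F ^ k < Fintype.card F ^ n - 1 := fun k hk => by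
    have h1 : Fintype.card F ^ k ≤ Fintype.card F ^ (n - 1) := Nat.pow_le_pow_right (by omega) (by omega)
    have h2 : Fintype.card F ^ (n - 1) * 2 ≤ Fintype.card F ^ n := by
      calc Fintype.card F ^ (n - 1) * 2 ≤ Fintype.card F ^ (n - 1) * Fintype.card F :=
            Nat.mul_le_mul_left _ hq
        _ = _ := by rw [← pow_succ, Nat.sub_add_cancel (by omega)]
    have h3 : 2 ≤ Fintype.card F ^ (n - 1) := hq.trans_le (Nat.le_self_pow (by omega) _)
    omega
  exact Nat.pow_right_injective hq (h.eq_of_lt_of_lt (hb i hi) (hb j hj))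

theorem sum_orbit_inner {n M : ℕ} (hn : 0 < n) {φ : Kl F → ℂ} (hφ : IsLift M φ)
    (hNM : Fintype.card F ^ n - 1 ∣ M) (E : Finset (Kl F))
    (hE : ∀ x, x ∈ E ↔ x ^ (Fintype.card F ^ n - 1) = 1) (a b : ℕ) :
    ∑ x ∈ E, (∑ i ∈ Finset.range n, φ (x ^ Fintype.card F ^ i) ^ a) *
        conj (∑ i ∈ Finset.range n, φ (x ^ Fintype.card F ^ i) ^ b) =
      ∑ i ∈ Finset.range n, ∑ j ∈ Finset.range n,
        if Fintype.card F ^ i * a ≡ Fintype.card F ^ j * b [MOD Fintype.card F ^ n - 1]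
          then ((Fintype.card F ^ n - 1 : ℕ) : ℂ) else 0 := by
  classical
  obtain ⟨E', hE', hsum⟩ := exists_roots_finset hn hφ hNM
  obtain rfl : E' = E := Finset.ext fun x => (hE' x).trans (hE x).symm
  have hxM : ∀ x ∈ E', x ^ M = 1 := fun x hx => by
    obtain ⟨j, hj⟩ := hNM
    rw [hj, pow_mul, (hE x).1 hx, one_pow]
  rw [Finset.sum_congr rfl (g := fun x => ∑ i ∈ Finset.range n, ∑ j ∈ Finset.range n,
    φ x ^ (Fintype.card F ^ i * a) * conj (φ x ^ (Fintype.card F ^ j * b))) fun x hx => ?_, Finset.sum_comm]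
  · refine Finset.sum_congr rfl fun i _ => ?_
    rw [Finset.sum_comm]
    exact Finset.sum_congr rfl fun j _ => hsum _ _
  · rw [map_sum, Finset.sum_mul_sum]
    refine Finset.sum_congr rfl fun i _ => Finset.sum_congr rfl fun j _ => ?_
    rw [hφ.map_pow (hxM x hx), hφ.map_pow (hxM x hx), ← pow_mul, ← pow_mul]

theorem degP_sign (q : ℕ) {n : ℕ} (hn : 0 < n) :
    (-1 : ℂ) ^ (n - 1) * degP q n = ∏ i ∈ Finset.Ico 1 n, ((q : ℂ) ^ i - 1) := by
  obtain ⟨k, rfl⟩ := Nat.exists_eq_succ_of_ne_zero hn.ne'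
  induction k with
  | zero => simp [degP]
  | succ k ih =>
    have h := ih (Nat.succ_pos k)
    simp only [Nat.succ_eq_add_one, add_tsub_cancel_right, degP] at h ⊢
    rw [Finset.prod_Ico_succ_top (by omega), ← h, Finset.prod_range_succ]
    ring

open Classical in
/-- Vanishing of the sums over the unipotent radicals of the maximal parabolics. -/
theorem sum_unipotent_rho {n m : ℕ} (h0 : 0 < m) (hm : m < n) [Fintype (GL (Fin n) F)] (φ : Kl F → ℂ) :
    ∑ g : GL (Fin n) F, (if (∀ i j : Fin n, ¬ (i.val < m ∧ m ≤ j.val) →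
        (g : Matrix (Fin n) (Fin n) F) i j = (1 : Matrix (Fin n) (Fin n) F) i j)
      then rho φ (natHom n g) else 0) = 0 := by
  let X : Submodule F (Fin n → F) :=
    { carrier := {v | ∀ j : Fin n, m ≤ j.val → v j = 0}
      add_mem' := fun {a b} ha hb j hj => by simp [ha j hj, hb j hj]
      zero_mem' := fun j _ => rfl
      smul_mem' := fun c v hv j hj => by simp [hv j hj] }
  have hsingle : ∀ i : Fin n, i.val < m → Pi.single i (1 : F) ∈ X := fun i hi j hj =>
    Pi.single_eq_of_ne (fun e => by omega) _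
  have hXb : X ≠ ⊥ := fun e => by
    have := hsingle ⟨0, by omega⟩ h0
    rw [e, Submodule.mem_bot, Pi.single_eq_zero_iff] at this
    exact one_ne_zero this
  have hXt : X ≠ ⊤ := fun e => by
    have := (e.symm ▸ Submodule.mem_top : Pi.single (⟨m, hm⟩ : Fin n) (1 : F) ∈ X) ⟨m, hm⟩ le_rfl
    rw [Pi.single_eq_same] at this
    exact one_ne_zero this
  have h1X : ∀ x ∈ X, (1 : Module.End F (Fin n → F)) x ∈ X := fun x hx => hx
  have := finite_hom X
  have := Fintype.ofFinite (((Fin n → F) ⧸ X) →ₗ[F] X)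
  have hkey := sum_rho_translate (φ := φ) _ rfl (1 : Module.End F (Fin n → F)) X h1X hXb hXt
  rw [← Finset.sum_filter]
  refine Eq.trans (Eq.symm ?_) hkey
  have hunit : ∀ c, ∃ g : GL (Fin n) F, natHom n g = 1 + tr X c := fun c => by
    refine (charpoly_coeff_zero_ne _).1 ?_
    rw [charpoly_add_tr h1X c]
    exact (charpoly_coeff_zero_ne _).2 ⟨1, map_one _⟩
  choose g hg using hunit
  have hentry : ∀ (g : GL (Fin n) F) (i j : Fin n),
      natHom n g (Pi.single j 1) i = (g : Matrix (Fin n) (Fin n) F) i j := fun g i j => by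
    simp [natHom]
  have hone : ∀ i j : Fin n, (Pi.single j (1 : F) : Fin n → F) i = (1 : Matrix (Fin n) (Fin n) F) i j :=
    fun i j => by rw [Matrix.one_apply, Pi.single_apply]
  refine Finset.sum_bij (fun c _ => g c) (fun c _ => ?_) (fun c _ d _ h => ?_) (fun γ hγ => ?_)
    fun c _ => by rw [hg]
  · refine Finset.mem_filter.2 ⟨Finset.mem_univ _, fun i j hij => ?_⟩
    rw [← hentry, hg, LinearMap.add_apply, Module.End.one_apply, Pi.add_apply, hone, add_eq_left]
    by_cases hj : j.val < m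
    · rw [tr_of_mem X c (hsingle j hj)]; rfl
    · exact tr_mem X c _ i (not_lt.1 fun hi => hij ⟨hi, by omega⟩)
  · have h' := congrArg (natHom n) h
    rw [hg, hg, add_right_inj] at h'
    refine Submodule.linearMap_qext _ (LinearMap.ext fun x => Subtype.ext ?_)
    exact LinearMap.congr_fun h' x
  · have hcond := (Finset.mem_filter.1 hγ).2
    let D : Module.End F (Fin n → F) := natHom n γ - 1
    have hD : ∀ i j : Fin n, ¬ (i.val < m ∧ m ≤ j.val) → D (Pi.single j 1) i = 0 := fun i j hij => by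
      rw [LinearMap.sub_apply, Module.End.one_apply, Pi.sub_apply, hentry, hone, hcond i j hij, sub_self]
    have hexp : ∀ v : Fin n → F, D v = ∑ j, v j • D (Pi.single j 1) := fun v => by
      conv_lhs => rw [pi_eq_sum_univ' v]
      rw [map_sum]
      exact Finset.sum_congr rfl fun j _ => map_smul _ _ _
    have hDX : ∀ v, D v ∈ X := fun v i hi => by
      rw [hexp, Finset.sum_apply]
      exact Finset.sum_eq_zero fun j _ => by rw [Pi.smul_apply, hD i j (fun h => by omega), smul_zero]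
    have hker : X ≤ LinearMap.ker (D.codRestrict X hDX) := fun v hv => by
      rw [LinearMap.mem_ker]
      refine Subtype.ext ?_
      rw [LinearMap.codRestrict_apply, hexp, Submodule.coe_zero]
      funext i
      rw [Finset.sum_apply]
      refine Finset.sum_eq_zero fun j _ => ?_
      by_cases hj : j.val < m
      · rw [Pi.smul_apply, hD i j (fun h => by omega), smul_zero]
      · rw [hv j (by omega), zero_smul]; rfl
    refine ⟨X.liftQ (D.codRestrict X hDX) hker, Finset.mem_univ _, natHom_injective n ?_⟩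
    rw [hg]
    refine LinearMap.ext fun v => ?_
    show v + D v = natHom n γ v
    simp [D]

open Classical in
/-- The cuspidal characters. -/
theorem exists_cuspidal [DecidableEq F] (n : ℕ) (hn : 2 ≤ n) [Fintype (GL (Fin n) F)] :
    Nat.totient (Fintype.card F ^ n - 1) / n ≤
      Nat.card {χ : Cfsg.IrrCharacter (GL (Fin n) F) //
        (χ : GL (Fin n) F → ℂ) 1 = ∏ i ∈ Finset.Ico 1 n, ((Fintype.card F : ℂ) ^ i - 1) ∧
        ∀ m : ℕ, 0 < m → m < n →
          (∑ g : GL (Fin n) F,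
            if (∀ i j : Fin n, ¬ (i.val < m ∧ m ≤ j.val) → (g : Matrix (Fin n) (Fin n) F) i j = (1 : Matrix (Fin n) (Fin n) F) i j)
            then (χ : GL (Fin n) F → ℂ) g else 0) = 0} := by
  have hn0 : 0 < n := by omega
  set q := Fintype.card F with hq
  set N := q ^ n - 1 with hNdef
  have hN1 : 1 < N := by
    have h1 : 2 ^ 2 ≤ q ^ n := le_trans (Nat.pow_le_pow_left Fintype.one_lt_card 2)
      (Nat.pow_le_pow_right Fintype.card_pos hn)
    omega
  have : NeZero N := ⟨by omega⟩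
  set M := Nat.card (GL (Fin n) F) * N with hMdef
  have hM0 : M ≠ 0 := Nat.mul_ne_zero Nat.card_pos.ne' (by omega)
  have : NeZero M := ⟨hM0⟩
  have hNM : N ∣ M := dvd_mul_left _ _
  obtain ⟨φ, hφ⟩ := exists_isLift (F := F) hM0
  obtain ⟨E, hE, -⟩ := exists_roots_finset hn0 hφ hNM
  set H := Subgroup.zpowers (qUnit F hn0) with hH
  have hlift : ∀ c : (ZMod N)ˣ ⧸ H, ∃ u : (ZMod M)ˣ, ZMod.unitsMap hNM u = c.out := fun c =>
    ZMod.unitsMap_surjective hNM c.out
  choose u hu using hlift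
  set j : (ZMod N)ˣ ⧸ H → ℕ := fun c => ((u c : ZMod M)).val with hjdef
  have hjc : ∀ c, Nat.Coprime (j c) M := fun c => ZMod.val_coe_unit_coprime (u c)
  have hjval : ∀ c, ((j c : ℕ) : ZMod N) = ((c.out : (ZMod N)ˣ) : ZMod N) := fun c => by
    rw [← hu c, ZMod.unitsMap_val, hjdef, ZMod.natCast_val]
  have hlf : ∀ c, IsLift M (fun x => φ x ^ j c) := fun c => hφ.pow (hjc c)
  have hgen : ∀ c, IsGeneralizedCharacter (GL (Fin n) F) (fun g => rho (fun x => φ x ^ j c) (natHom n g)) :=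
    fun c => isGeneralizedCharacter_rho (hlf c) _ rfl _ (natHom n) fun g => by
      rw [hMdef, pow_mul, pow_card_eq_one', one_pow]
  have hq1 : ((Fintype.card F : ℂ) ^ n - 1) = ((N : ℕ) : ℂ) := by
    rw [hNdef, Nat.cast_sub (Nat.one_le_pow _ _ Fintype.card_pos), Nat.cast_pow, Nat.cast_one]
  have hNC : ((N : ℕ) : ℂ) ≠ 0 := Nat.cast_ne_zero.2 (by omega)
  have hnC : (n : ℂ) ≠ 0 := Nat.cast_ne_zero.2 hn0.ne'
  have horth : ∀ c c', classInner (fun g : GL (Fin n) F => rho (fun x => φ x ^ j c) (natHom n g))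
      (fun g => rho (fun x => φ x ^ j c') (natHom n g)) = if c = c' then 1 else 0 := by
    intro c c'
    have h1 := classInner_rho hn0 (fun x => φ x ^ j c) (fun x => φ x ^ j c') E hE
    rw [sum_orbit_inner hn0 hφ hNM E hE, hq1] at h1
    refine mul_right_cancel₀ (mul_ne_zero hnC hNC) (h1.trans ?_)
    by_cases hcc : c = c'
    · subst hcc
      rw [if_pos rfl, one_mul, Finset.sum_congr rfl (g := fun _ => ((N : ℕ) : ℂ)) fun i hi => ?_,
        Finset.sum_const, Finset.card_range, nsmul_eq_mul]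
      rw [Finset.sum_eq_single i (fun b hb hbi => if_neg fun h => hbi ?_) (fun h => absurd hi h),
        if_pos (Nat.ModEq.refl _)]
      refine (qpow_modEq (F := F) hn (Finset.mem_range.1 hi) (Finset.mem_range.1 hb) ?_).symm
      exact Nat.ModEq.cancel_right_of_coprime ((hjc c).coprime_dvd_right hNM).symm h
    · rw [if_neg hcc, zero_mul]
      refine Finset.sum_eq_zero fun i _ => Finset.sum_eq_zero fun i' _ => if_neg fun h => hcc ?_
      rw [← QuotientGroup.out_eq' c, ← QuotientGroup.out_eq' c', QuotientGroup.eq]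
      rw [← ZMod.natCast_eq_natCast_iff, Nat.cast_mul, Nat.cast_mul, hjval, hjval, Nat.cast_pow,
        Nat.cast_pow] at h
      have h2 : qUnit F hn0 ^ i * c.out = qUnit F hn0 ^ i' * c'.out := by
        apply Units.ext
        simpa [qUnit] using h
      have h3 : c.out⁻¹ * c'.out = (qUnit F hn0 ^ i')⁻¹ * qUnit F hn0 ^ i := by
        rw [eq_inv_mul_iff_mul_eq, mul_left_comm, ← h2, mul_left_comm, inv_mul_cancel, mul_one]
      rw [h3]
      exact H.mul_mem (H.inv_mem (H.pow_mem (Subgroup.mem_zpowers _) _)) (H.pow_mem (Subgroup.mem_zpowers _) _)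
  set D := ∏ i ∈ Finset.Ico 1 n, ((Fintype.card F : ℂ) ^ i - 1) with hD
  have hDnat : D = ((∏ i ∈ Finset.Ico 1 n, (q ^ i - 1) : ℕ) : ℂ) := by
    rw [Nat.cast_prod, hD]
    refine Finset.prod_congr rfl fun i _ => ?_
    rw [Nat.cast_sub (Nat.one_le_pow _ _ Fintype.card_pos), Nat.cast_pow, Nat.cast_one]
  have hDpos : 0 < ∏ i ∈ Finset.Ico 1 n, (q ^ i - 1) := Finset.prod_pos fun i hi => by
    have := Nat.one_lt_pow (Nat.one_le_iff_ne_zero.1 (Finset.mem_Ico.1 hi).1) (Fintype.one_lt_card (α := F))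
    rw [hq]
    omega
  set s : ℂ := (-1) ^ (n - 1) with hs
  have hirr : ∀ c, IsIrrCharacter (GL (Fin n) F)
      (fun g => s * rho (fun x => φ x ^ j c) (natHom n g)) := by
    intro c
    obtain ⟨χ, hχ, hor⟩ := Char.IsGeneralizedCharacter.exists_irr_of_norm_one (hgen c)
      (by rw [horth c c, if_pos rfl])
    obtain ⟨d, -, hd⟩ := Char.IsIrrCharacter.exists_degree hχ
    have hd0 : d ≠ 0 := fun e => Char.IsIrrCharacter.apply_one_ne_zero hχ (by rw [hd, e, Nat.cast_zero])
    have hval : s * rho (fun x => φ x ^ j c) (natHom n 1) = D := by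
      rw [map_one, rho_one (hlf c) _ (Module.finrank_fin_fun F), Nat.card_eq_fintype_card]
      exact degP_sign q hn0
    have hcases : (fun g => s * rho (fun x => φ x ^ j c) (natHom n g)) = χ ∨
        (fun g => s * rho (fun x => φ x ^ j c) (natHom n g)) = -χ := by
      rcases neg_one_pow_eq_or ℂ (n - 1) with e | e <;> rcases hor with e' | e'
      · left; funext g; rw [hs, e, one_mul]; exact congrFun e' g
      · right; funext g; rw [hs, e, one_mul]; exact congrFun e' g
      · right; funext g; rw [hs, e, congrFun e' g]; simp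
      · left; funext g; rw [hs, e, congrFun e' g]; simp
    rcases hcases with e | e
    · rw [e]; exact hχ
    · exfalso
      have h1 := congrFun e 1
      simp only [Pi.neg_apply] at h1
      rw [hval, hDnat, hd, eq_neg_iff_add_eq_zero, ← Nat.cast_add, Nat.cast_eq_zero] at h1
      omega
  have hcnt : Nat.card ((ZMod N)ˣ ⧸ H) = Nat.totient N / n := by
    have h1 : Nat.card H = n := by
      rw [hH, Nat.card_zpowers, orderOf_eq_iff hn0]
      have hpow : ∀ i, ((qUnit F hn0 ^ i : (ZMod N)ˣ) : ZMod N) = ((q ^ i : ℕ) : ZMod N) := fun i => by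
        simp [qUnit, hq]
      refine ⟨Units.ext ?_, fun i hi hi0 e => ?_⟩
      · have h4 : q ^ n = N + 1 := by omega
        refine (hpow n).trans ?_
        refine (congrArg (fun t : ℕ => (t : ZMod N)) h4).trans ?_
        push_cast
        rw [ZMod.natCast_self, zero_add]
      · have h2 := congrArg Units.val e
        have h5 : ((q ^ i : ℕ) : ZMod N) = ((1 : ℕ) : ZMod N) := by
          rw [← hpow i]; simpa using h2
        rw [ZMod.natCast_eq_natCast_iff] at h5
        have := qpow_modEq (F := F) hn hi hn0 (by simp only [pow_zero]; exact h5)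
        omega
    have h3 := H.card_eq_card_quotient_mul_card_subgroup
    rw [Nat.card_eq_fintype_card (α := (ZMod N)ˣ), ZMod.card_units_eq_totient, h1] at h3
    rw [h3, Nat.mul_div_cancel _ hn0]
  rw [← hcnt]
  let Ψ : (ZMod N)ˣ ⧸ H → {χ : Cfsg.IrrCharacter (GL (Fin n) F) //
        (χ : GL (Fin n) F → ℂ) 1 = D ∧
        ∀ m : ℕ, 0 < m → m < n →
          (∑ g : GL (Fin n) F,
            if (∀ i j : Fin n, ¬ (i.val < m ∧ m ≤ j.val) → (g : Matrix (Fin n) (Fin n) F) i j = (1 : Matrix (Fin n) (Fin n) F) i j)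
            then (χ : GL (Fin n) F → ℂ) g else 0) = 0} := fun c =>
    ⟨⟨_, hirr c⟩, by
      show s * rho (fun x => φ x ^ j c) (natHom n 1) = D
      rw [map_one, rho_one (hlf c) _ (Module.finrank_fin_fun F), Nat.card_eq_fintype_card]
      exact degP_sign q hn0, fun m h0 hm => by
      have h := sum_unipotent_rho h0 hm (fun x => φ x ^ j c)
      calc _ = s * ∑ g : GL (Fin n) F, (if (∀ i j : Fin n, ¬ (i.val < m ∧ m ≤ j.val) →
              (g : Matrix (Fin n) (Fin n) F) i j = (1 : Matrix (Fin n) (Fin n) F) i j)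
            then rho (fun x => φ x ^ j c) (natHom n g) else 0) := by
              rw [Finset.mul_sum]
              exact Finset.sum_congr rfl fun g _ => by rw [mul_ite, mul_zero]
        _ = 0 := by rw [h, mul_zero]⟩
  refine Nat.card_le_card_of_injective Ψ fun c c' h => ?_
  by_contra hcc
  have h1 : (fun g : GL (Fin n) F => rho (fun x => φ x ^ j c) (natHom n g)) =
      fun g => rho (fun x => φ x ^ j c') (natHom n g) := by
    funext g
    have := congrFun (congrArg (fun t => ((t.1 : IrrCharacter (GL (Fin n) F)) : GL (Fin n) F → ℂ)) h) g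
    exact mul_left_cancel₀ (pow_ne_zero _ (by norm_num)) this
  have h2 := horth c c'
  rw [if_neg hcc, ← h1, horth c c, if_pos rfl] at h2
  exact one_ne_zero h2

end Cfsg.Agent.GLCusp
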